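import Cfsg.Agent.ClassNM.Basic

/-!
Class sizes `1, n, m, n * m`: elements of `p`-power order with class size prime to `p`.
-/

set_option autoImplicit false
set_option linter.unusedSectionVars false

namespace Cfsg.Agent.ClassNM

open Subgroup
open CoprimeClass (cz sz mem_cz center_le cz_le_of_mem_zpowers cz_mul)

universe u

variable {G : Type u} [Group G] [Finite G] {n m : ℕ}

theorem prime_eq_of_pEl {r s : ℕ} (hr : r.Prime) (hs : s.Prime) {x : G} (h1 : PEl r x)
    (h2 : PEl s x) (hx : x ∉ center G) : r = s := by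
  by_contra hne
  exact hx (h1.eq_one_of_coprime (h2.coprime_prime hs hr (Ne.symm hne)) ▸ one_mem _)

theorem Full.mono {s k l : ℕ} (h : Full G s k) (hl : l ≠ 0) (hd : k ∣ l) : Full G s l := by
  unfold Full at h ⊢
  have hk : k ≠ 0 := fun e => hl (Nat.eq_zero_of_zero_dvd (e ▸ hd))
  have := (Nat.factorization_le_iff_dvd hk hl).mpr hd s
  omega

/-- All primary elements of class size `n` belong to primes of `m`, and conversely. -/
def AllBad (G : Type u) [Group G] (n m : ℕ) : Prop :=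
  (∀ (r : ℕ) (u : G), r.Prime → PEl r u → sz u = n → r ∣ m) ∧
    (∀ (r : ℕ) (v : G), r.Prime → PEl r v → sz v = m → r ∣ n)

theorem AllBad.symm (hB : AllBad G n m) : AllBad G m n := ⟨hB.2, hB.1⟩

namespace Hyp

variable (H : Hyp G n m)

include H

theorem dvd_n_not_m {p : ℕ} (hp : p.Prime) (h : p ∣ n) : ¬ p ∣ m := H.not_dvd_both hp h

/-- An element with class size `m` of `p`-power order, `p ∣ n`, cannot commute with all primary
elements of class size `n`. -/
theorem false_of_commute_all {p : ℕ} [hp : Fact p.Prime] (hpn : p ∣ n) {y : G} (hy : PEl p y)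
    (hym : sz y = m)
    (hall : ∀ (r : ℕ) (z : G), r.Prime → PEl r z → sz z = n → Commute y z) : False := by
  have hpm := H.dvd_n_not_m hp.out hpn
  have hyp : ¬ p ∣ sz y := hym ▸ hpm
  refine H.symm.nc_n hym (center_of_meet fun w => ?_)
  rcases H.range w with e | e | e | e
  · exact ⟨1, (mem_center_iff.mp (sz_eq_one_iff.mp e) _).symm⟩
  · obtain ⟨r, t, hr, ht, -, htn, hcz⟩ := H.exists_primary e
    refine ⟨1, ?_⟩
    have : y ∈ cz w := hcz ▸ mem_cz.mpr (hall r t hr ht htn)
    rw [one_mul, inv_one, mul_one]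
    exact (mem_cz.mp this).symm
  · obtain ⟨S, hS⟩ := exists_sylow_le (show ¬ p ∣ sz w by rw [e]; exact hpm)
    obtain ⟨g, hg, -⟩ := exists_central_conj hy hyp S
    exact ⟨g, (mem_cz.mp (hS hg)).symm⟩
  · -- a `p`-subgroup of `cz w` of full order inside `cz z`
    have key : ∀ (r : ℕ) (z : G), r.Prime → PEl r z → sz z = n →
        (∀ c ∈ cz w, PEl p c → c ∈ cz z) → ∃ g : G, Commute w (g * y * g⁻¹) := by
      intro r z hr hz hzn hle
      obtain ⟨R⟩ := (inferInstance : Nonempty (Sylow p (cz w)))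
      have hR1 : (R : Subgroup (cz w)).map (cz w).subtype ≤ cz z := by
        rintro _ ⟨c, hc, rfl⟩
        refine hle _ c.2 ?_
        obtain ⟨k, hk⟩ := pEl_of_mem R.isPGroup' hc
        exact ⟨k, by rwa [← Subgroup.orderOf_coe] at hk⟩
      set R' := ((R : Subgroup (cz w)).map (cz w).subtype).subgroupOf (cz z) with hR'
      have hcard : Nat.card R' = p ^ (Nat.card (cz z)).factorization p := by
        rw [hR', Nat.card_congr (subgroupOfEquivOfLe hR1).toEquiv,
          card_map_of_injective (cz w).subtype_injective, R.card_eq_multiplicity]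
        congr 1
        have h1 := congrArg (fun k => k.factorization p) (cz w).card_mul_index
        have h2 := congrArg (fun k => k.factorization p) (cz z).card_mul_index
        simp only [Nat.factorization_mul Nat.card_pos.ne' (sz_pos _).ne', Finsupp.add_apply] at h1 h2
        change (Nat.card (cz w)).factorization p + (sz w).factorization p = _ at h1
        change (Nat.card (cz z)).factorization p + (sz z).factorization p = _ at h2
        rw [e,
          Nat.factorization_mul (by have := H.hn; omega) (by have := H.hm; omega),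
          Finsupp.add_apply, Nat.factorization_eq_zero_of_not_dvd hpm, add_zero] at h1
        rw [hzn] at h2
        omega
      let T : Sylow p (cz z) := Sylow.ofCard R' hcard
      have hy' : y ∈ cz z := mem_cz.mpr (hall r z hr hz hzn)
      have hyel : PEl p (⟨y, hy'⟩ : cz z) := by
        obtain ⟨k, hk⟩ := hy
        exact ⟨k, by rwa [← Subgroup.orderOf_coe]⟩
      obtain ⟨g, hg⟩ := exists_conj_mem hyel T
      have hg' : g * ⟨y, hy'⟩ * g⁻¹ ∈ R' := hg
      rw [hR', mem_subgroupOf] at hg'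
      obtain ⟨c, -, hc⟩ := hg'
      refine ⟨(g : G), (mem_cz.mp ?_).symm⟩
      have : (g : G) * y * (g : G)⁻¹ = (c : G) := hc.symm
      rw [this]; exact c.2
    obtain ⟨a, b, hab, ha, hb, hcomm, hap, hbp⟩ := exists_split w hp.out
    obtain ⟨s, t, hs, ht, hnc, hmem, hcase⟩ : ∃ (s : ℕ) (t : G), s.Prime ∧ PEl s t ∧ t ∉ center G ∧
        t ∈ zpowers w ∧ (sz t = n * m ∨ s ≠ p) := by
      by_cases hbc : b ∈ center G
      · have he : cz w = cz a := by rw [← hab, cz_mul_center hbc]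
        have ha' : sz a = n * m := by rw [← e]; exact congrArg Subgroup.index he.symm
        exact ⟨p, a, hp.out, hap, H.nc_nm ha', ha, .inl ha'⟩
      · obtain ⟨s, t, hs, ht, hnc, hmem⟩ := exists_nc_part hbc
        refine ⟨s, t, hs, ht, hnc, zpowers_le.mpr hb hmem, .inr fun hsp => hnc ?_⟩
        subst hsp
        rw [ht.eq_one_of_coprime (Nat.Coprime.coprime_dvd_left (orderOf_dvd_of_mem_zpowers hmem) hbp)]
        exact one_mem _
    have hsf := Fact.mk hs
    have hle : cz w ≤ cz t := cz_le_of_mem_zpowers hmem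
    rcases H.range t with f | f | f | f
    · exact absurd (sz_eq_one_iff.mp f) hnc
    · exact key s t hs ht f fun c hc _ => hle hc
    · -- class size `m`
      have hsp : s ≠ p := hcase.resolve_left (by
        rw [f]
        intro h
        have := H.hn
        have := H.hm
        nlinarith)
      obtain ⟨S, hS⟩ := exists_sylow_le (show ¬ p ∣ sz t by rw [f]; exact hpm)
      obtain ⟨g, hg, hgS⟩ := exists_central_conj hy hyp S
      have heq := H.symm.cz_eq_of_center hs hsp hpn f ht S hS hg hgS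
        (fun hc => H.symm.nc_n hym (sz_eq_one_iff.mp (sz_conj g y ▸ sz_eq_one_iff.mpr hc)))
      have hwt : w ∈ cz t := hle (mem_cz.mpr rfl)
      exact ⟨g, mem_cz.mp (heq ▸ hwt)⟩
    · -- largest class
      have heq : cz w = cz t := cz_eq_of_le hle (e.trans f.symm)
      by_cases hsm : s ∣ m
      · obtain ⟨w', hw'⟩ := H.exn
        obtain ⟨r, u, hr, hu, -, hun, -⟩ := H.exists_primary hw'
        have hsn : ¬ s ∣ sz u := hun ▸ fun h => H.not_dvd_both hs h hsm
        obtain ⟨g, hg⟩ := commute_conj_of_not_dvd ht hsn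
        have hsp : s ≠ p := fun h => hpm (h ▸ hsm)
        refine key r _ hr (hu.conj g) ((sz_conj g u).trans hun) fun c hc hcp => ?_
        rw [heq] at hc
        have h1 := H.comm_big f ht hc (hcp.coprime_prime hp.out hs hsp.symm)
        exact mem_cz.mpr (mem_cz.mp (h1 (mem_cz.mpr hg.symm))).symm
      · obtain ⟨g, hg⟩ := commute_conj_of_not_dvd ht (hym ▸ hsm : ¬ s ∣ sz y)
        refine ⟨g, (mem_cz.mp (?_ : g * y * g⁻¹ ∈ cz w)).symm⟩
        rw [heq]; exact mem_cz.mpr hg.symm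

theorem good_commute {r : ℕ} (hr : r.Prime) (hrm : ¬ r ∣ m) {u : G} (hu : PEl r u) (hun : sz u = n)
    {v : G} (hv : sz v = m) : Commute u v := by
  have := Fact.mk hr
  obtain ⟨g, hg⟩ := commute_conj_of_not_dvd hu (hv ▸ hrm : ¬ r ∣ sz v)
  exact commute_of_conj (H.hcop_sz hun hv) g hg

theorem exists_noncomm {p : ℕ} [hp : Fact p.Prime] (hpn : p ∣ n) {y : G} (hy : PEl p y)
    (hym : sz y = m) :
    ∃ q z, q.Prime ∧ q ∣ m ∧ PEl q z ∧ sz z = n ∧ ¬ Commute y z := by
  by_contra hc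
  push Not at hc
  refine H.false_of_commute_all hpn hy hym fun r z hr hz hzn => ?_
  by_cases hrm : r ∣ m
  · exact hc r z hr hrm hz hzn
  · exact (H.good_commute hr hrm hz hzn hym).symm

theorem prime_dvd_m {p : ℕ} [hp : Fact p.Prime] (hpn : p ∣ n) {y : G} (hy : PEl p y)
    (hym : sz y = m) {r : ℕ} (hr : r.Prime) {u : G} (hu : PEl r u) (hun : sz u = n) : r ∣ m := by
  by_contra hrm
  obtain ⟨q, z, hq, hqm, hz, hzn, hyz⟩ := H.exists_noncomm hpn hy hym
  have := Fact.mk hq
  have hqn : ¬ q ∣ n := fun h => H.not_dvd_both hq h hqm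
  obtain ⟨S, hS⟩ := exists_sylow_le (show ¬ q ∣ sz u by rw [hun]; exact hqn)
  obtain ⟨g, hg, hgS⟩ := exists_central_conj hz (hzn ▸ hqn : ¬ q ∣ sz z) S
  have heq := H.cz_eq_of_center hr (fun h => hrm (h ▸ hqm)) hqm hun hu S hS hg hgS
    (H.nc_n ((sz_conj g z).trans hzn))
  have h1 : y ∈ cz u := mem_cz.mpr (H.good_commute hr hrm hu hun hym).symm
  exact hyz (commute_of_conj (H.hcop_sz hzn hym).symm g (mem_cz.mp (heq ▸ h1)))

theorem allBad {p : ℕ} [hp : Fact p.Prime] (hpn : p ∣ n) {y : G} (hy : PEl p y) (hym : sz y = m) :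
    AllBad G n m := by
  obtain ⟨q, z, hq, hqm, hz, hzn, -⟩ := H.exists_noncomm hpn hy hym
  have := Fact.mk hq
  exact ⟨fun r u hr hu hun => H.prime_dvd_m hpn hy hym hr hu hun,
    fun r v hr hv hvm => H.symm.prime_dvd_m hqm hz hzn hr hv hvm⟩

variable (hB : AllBad G n m)

include hB

theorem commute_of_diff {q₁ q₂ : ℕ} (h₁ : q₁.Prime) (h₂ : q₂.Prime) (hne : q₁ ≠ q₂) {t₁ t₂ y : G}
    (ht₁ : PEl q₁ t₁) (hn₁ : sz t₁ = n) (ht₂ : PEl q₂ t₂) (hn₂ : sz t₂ = n) (hy : sz y = m)
    (h : Commute y t₂) : Commute y t₁ := by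
  have := Fact.mk h₁
  have hqm := hB.1 q₁ t₁ h₁ ht₁ hn₁
  have hqn : ¬ q₁ ∣ n := fun h => H.not_dvd_both h₁ h hqm
  obtain ⟨S, hS⟩ := exists_sylow_le (show ¬ q₁ ∣ sz t₂ by rw [hn₂]; exact hqn)
  obtain ⟨g, hg, hgS⟩ := exists_central_conj ht₁ (hn₁ ▸ hqn : ¬ q₁ ∣ sz t₁) S
  have heq := H.cz_eq_of_center h₂ hne.symm hqm hn₂ ht₂ S hS hg hgS
    (H.nc_n ((sz_conj g t₁).trans hn₁))
  refine commute_of_conj (H.hcop_sz hn₁ hy).symm g (mem_cz.mp ?_)
  rw [heq]; exact mem_cz.mpr h

theorem commute_all_of_two {q₁ q₂ : ℕ} (h₁ : q₁.Prime) (h₂ : q₂.Prime) (hne : q₁ ≠ q₂) {t₁ t₂ y : G}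
    (ht₁ : PEl q₁ t₁) (hn₁ : sz t₁ = n) (ht₂ : PEl q₂ t₂) (hn₂ : sz t₂ = n) (hy : sz y = m)
    {r : ℕ} (hr : r.Prime) {z : G} (hz : PEl r z) (hzn : sz z = n) (h : Commute y z)
    {r' : ℕ} (hr' : r'.Prime) {z' : G} (hz' : PEl r' z') (hzn' : sz z' = n) : Commute y z' := by
  have h1 : Commute y t₁ := by
    by_cases e : q₁ = r
    · have hq : q₂ ≠ r := e ▸ hne.symm
      exact H.commute_of_diff hB h₁ h₂ hne ht₁ hn₁ ht₂ hn₂ hy
        (H.commute_of_diff hB h₂ hr hq ht₂ hn₂ hz hzn hy h)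
    · exact H.commute_of_diff hB h₁ hr e ht₁ hn₁ hz hzn hy h
  by_cases e : r' = q₁
  · have hq : r' ≠ q₂ := e ▸ hne
    exact H.commute_of_diff hB hr' h₂ hq hz' hzn' ht₂ hn₂ hy
      (H.commute_of_diff hB h₂ h₁ hne.symm ht₂ hn₂ ht₁ hn₁ hy h1)
  · exact H.commute_of_diff hB hr' h₁ e hz' hzn' ht₁ hn₁ hy h1

/-- With a commuting pair, the primary elements of class size `n` have a single prime. -/
theorem prime_unique {p r : ℕ} (hp : p.Prime) (hr : r.Prime) {y z : G} (hy : PEl p y)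
    (hym : sz y = m) (hz : PEl r z) (hzn : sz z = n) (h : Commute y z)
    {r' : ℕ} (hr' : r'.Prime) {z' : G} (hz' : PEl r' z') (hzn' : sz z' = n) : r' = r := by
  by_contra hne
  have := Fact.mk hp
  exact H.false_of_commute_all (hB.2 p y hp hy hym) hy hym fun r'' z'' h1 h2 h3 =>
    H.commute_all_of_two hB hr' hr hne hz' hzn' hz hzn hym hr hz hzn h h1 h2 h3

theorem sz_eq_m_of_commute {s r : ℕ} [hs : Fact s.Prime] (hsn : s ∣ n) (hr : r.Prime) {x u : G}
    (hu : PEl r u) (hun : sz u = n) (hx : PEl s x) (hnc : x ∉ center G) (hxu : x ∈ cz u) :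
    sz x = m := by
  rcases H.range x with e | e | e | e
  · exact absurd (sz_eq_one_iff.mp e) hnc
  · exact (H.not_dvd_both hs.out hsn (hB.1 s x hs.out hx e)).elim
  · exact e
  · exfalso
    have hrm := hB.1 r u hr hu hun
    have := Fact.mk hr
    refine H.symm.false_of_commute_all hrm hu hun fun r' v hr' hv hvm => ?_
    obtain ⟨g, hg⟩ := commute_conj_of_not_dvd hx (hvm ▸ H.dvd_n_not_m hs.out hsn : ¬ s ∣ sz v)
    have hu' : u ∈ cz x := mem_cz.mpr (mem_cz.mp hxu).symm
    have hle := H.comm_big e hx hu'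
      (hu.coprime_prime hr hs.out fun h => H.not_dvd_both hs.out hsn (h ▸ hrm))
    exact commute_of_conj (H.hcop_sz hun hvm) g (mem_cz.mp (hle (mem_cz.mpr hg.symm))).symm

theorem full_n {s : ℕ} [hs : Fact s.Prime] (hsn : s ∣ n)
    (h : ∀ (r : ℕ) (x u : G), r.Prime → PEl r u → sz u = n → PEl s x → sz x = m → ¬ Commute x u) :
    Full G s n := by
  obtain ⟨w, hw⟩ := H.exn
  obtain ⟨r, u, hr, hu, -, hun, -⟩ := H.exists_primary hw
  rw [← hun]
  refine full_of_central fun t ht htp => by_contra fun hnc => ?_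
  exact h r t u hr hu hun htp (H.sz_eq_m_of_commute hB hsn hr hu hun htp hnc ht) (mem_cz.mp ht)

theorem exists_pair :
    ∃ (p q : ℕ) (y z : G), p.Prime ∧ q.Prime ∧ PEl p y ∧ sz y = m ∧ PEl q z ∧ sz z = n ∧ Commute y z := by
  by_contra hc
  push Not at hc
  have h1 : ∀ (r : ℕ) (u : G) (s : ℕ) (x : G), r.Prime → s.Prime → PEl r u → sz u = n → PEl s x →
      sz x = m → ¬ Commute x u := fun r u s x hr hs hu hun hx hxm => hc s r x u hs hr hx hxm hu hun
  obtain ⟨w, hw⟩ := H.exnm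
  obtain ⟨s, t, hs, ht, hnc, hmem⟩ := exists_nc_part (H.nc_nm hw)
  have := Fact.mk hs
  refine false_of_full (mem_cz.mpr ?_) ht hnc (hw.symm ▸ ?_ : Full G s (sz w))
  · obtain ⟨i, rfl⟩ := mem_zpowers_iff.mp hmem
    exact ((Commute.refl w).zpow_left i).eq
  have hnm : n * m ≠ 0 := Nat.mul_ne_zero (by have := H.hn; omega) (by have := H.hm; omega)
  rcases H.prime_dvd hs ht hnc with h | h
  · exact (H.full_n hB h fun r x u hr hu hun hx hxm => h1 r u s x hr hs hu hun hx hxm).mono hnm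
      (dvd_mul_right _ _)
  · exact (H.symm.full_n hB.symm h fun r x u hr hu hum hx hxn hco =>
      h1 s x r u hs hr hx hxn hu hum hco.symm).mono hnm (dvd_mul_left _ _)

theorem eq_prime_of_dvd {p q : ℕ} (hq : q.Prime) {y z : G} (hp : p.Prime) (hy : PEl p y)
    (hym : sz y = m) (hz : PEl q z) (hzn : sz z = n) (h : Commute y z) {s : ℕ} (hs : s.Prime)
    (hsn : s ∣ n) : s = p := by
  have := Fact.mk hs
  by_contra hne
  have hu : ∀ (r : ℕ) (v : G), r.Prime → PEl r v → sz v = m → r = p := fun r v hr hv hvm =>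
    H.symm.prime_unique hB.symm hq hp hz hzn hy hym h.symm hr hv hvm
  have hfull : Full G s n :=
    H.full_n hB hsn fun r x u _ _ _ hx hxm _ => hne (hu s x hs hx hxm)
  obtain ⟨x, hx, hnc⟩ := H.exists_nc (hsn.mul_right m)
  rcases H.range x with e | e | e | e
  · exact hnc (sz_eq_one_iff.mp e)
  · exact H.not_dvd_both hs hsn (hB.1 s x hs hx e)
  · exact hne (hu s x hs hx e)
  · exact false_of_full (mem_cz.mpr rfl) hx hnc
      (e.symm ▸ hfull.mono (Nat.mul_ne_zero (by have := H.hn; omega) (by have := H.hm; omega))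
        (dvd_mul_right n m))

end Hyp

end Cfsg.Agent.ClassNM
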