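import Cfsg.Agent.ClassNM.Bad
import Cfsg.Agent.Core.Fitting
import Cfsg.Agent.Core.PCore
import Cfsg.Agent.Char.Integral

/-!
Class sizes `1, n, m, n * m`: no element of prime power order has class size prime to that prime.
-/

set_option autoImplicit false
set_option linter.unusedSectionVars false

namespace Cfsg.Agent.ClassNM

open Subgroup
open CoprimeClass (cz sz mem_cz center_le cz_le_of_mem_zpowers cz_mul)

universe u

variable {G : Type u} [Group G] [Finite G] {n m : ℕ}

theorem exists_pow_mul {p q : ℕ} : ∀ k : ℕ, k ≠ 0 →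
    (∀ r : ℕ, r.Prime → r ∣ k → r = p ∨ r = q) → ∃ a b : ℕ, k = p ^ a * q ^ b := by
  intro k
  induction k using Nat.recOnPrimeCoprime with
  | zero => intro h; exact absurd rfl h
  | prime_pow r a hr =>
    intro _ h
    rcases Nat.eq_zero_or_pos a with rfl | ha
    · exact ⟨0, 0, by simp⟩
    rcases h r hr (dvd_pow_self r ha.ne') with rfl | rfl
    · exact ⟨a, 0, by simp⟩
    · exact ⟨0, a, by simp⟩
  | coprime a b _ _ _ iha ihb =>
    intro h0 h
    obtain ⟨a1, b1, ha⟩ := iha (fun e => h0 (by simp [e])) fun r hr hd => h r hr (hd.mul_right b)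
    obtain ⟨a2, b2, hb⟩ := ihb (fun e => h0 (by simp [e])) fun r hr hd => h r hr (hd.mul_left a)
    exact ⟨a1 + a2, b1 + b2, by rw [ha, hb, pow_add, pow_add]; ring⟩

omit [Finite G] in
theorem pEl_of_pCore {r : ℕ} [Fact r.Prime] {x : G} (hx : x ∈ Cfsg.pCore r G) : PEl r x :=
  pEl_of_mem Core.pCore_isPGroup hx

namespace Hyp

variable (H : Hyp G n m)

include H

theorem isSolvable_of_primes {p q : ℕ} (hp : p.Prime) (hq : q.Prime)
    (h : ∀ r : ℕ, r.Prime → r ∣ n * m → r = p ∨ r = q) : Group.IsSolvable G := by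
  have hc : ∀ r : ℕ, r.Prime → r ∣ Nat.card (G ⧸ center G) → r = p ∨ r = q := by
    intro r hr hd
    by_contra hc
    have := Fact.mk hr
    obtain ⟨R⟩ := (inferInstance : Nonempty (Sylow r G))
    rw [← index_eq_card] at hd
    exact R.not_dvd_index (hd.trans (index_dvd_of_le fun x hx =>
      H.central_prime (fun h' => hc (h r hr h')) (pEl_of_mem R.isPGroup' hx)))
  obtain ⟨a, b, hab⟩ := exists_pow_mul _ Nat.card_pos.ne' hc
  have := Char.isSolvable_of_card_eq p q hp hq _ (G ⧸ center G) rfl ⟨a, b, hab⟩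
  have hcs : Group.IsSolvable (center G) :=
    Group.isSolvable_of_comm fun a b => Subtype.ext (mem_center_iff.mp b.2 a)
  refine Group.isSolvable_of_ker_le_range (center G).subtype (QuotientGroup.mk' (center G)) ?_
  rw [QuotientGroup.ker_mk', range_subtype]

variable {p q : ℕ} [hp : Fact p.Prime] [hq : Fact q.Prime] (hB : AllBad G n m)
  (hn' : ∀ s : ℕ, s.Prime → s ∣ n → s = p) (hm' : ∀ s : ℕ, s.Prime → s ∣ m → s = q)

include hp hq hB hn' hm'

theorem exists_bad_in_core {u : G} (hu : u ∈ Cfsg.pCore q G) (hnc : u ∉ center G) :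
    ∃ z ∈ Cfsg.pCore q G, sz z = n := by
  have hqm : q ∣ m := by
    obtain ⟨s, hs, hsm⟩ := Nat.exists_prime_and_dvd (n := m) (by have := H.hm; omega)
    exact hm' s hs hsm ▸ hsm
  have hqn : ¬ q ∣ n := fun h => H.not_dvd_both hq.out h hqm
  have hup : PEl q u := pEl_of_pCore hu
  rcases H.range u with e | e | e | e
  · exact absurd (sz_eq_one_iff.mp e) hnc
  · exact ⟨u, hu, e⟩
  · exact absurd (hB.2 q u hq.out hup e) hqn
  · obtain ⟨w, hw⟩ := H.exn
    obtain ⟨r, z, hr, hz, -, hzn, -⟩ := H.exists_primary hw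
    obtain rfl : r = q := hm' r hr (hB.1 r z hr hz hzn)
    obtain ⟨S, hS⟩ := exists_sylow_le (show ¬ r ∣ sz z by rw [hzn]; exact hqn)
    have hle : Cfsg.pCore r G ≤ cz z := (Core.pCore_le_sylow S).trans hS
    have : Group.IsSolvable G := H.isSolvable_of_primes hp.out hq.out fun s hs hd =>
      (hs.dvd_mul.mp hd).imp (hn' s hs) (hm' s hs)
    refine ⟨z, ?_, hzn⟩
    have hpr : p ≠ r := fun h => by
      obtain ⟨s, hs, hsn⟩ := Nat.exists_prime_and_dvd (n := n) (by have := H.hn; omega)
      exact hqn (h ▸ hn' s hs hsn ▸ hsn)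
    have hF : z ∈ Cfsg.fittingSubgroup G := by
      refine Core.centralizer_fittingSubgroup_le ?_
      have hall : Cfsg.fittingSubgroup G ≤ cz z := by
        rw [Core.fittingSubgroup_eq_iSup_pCore]
        refine iSup_le fun s => ?_
        have := Fact.mk s.2
        intro t ht
        by_cases h1 : (s : ℕ) ∣ n * m
        · rcases s.2.dvd_mul.mp h1 with h | h
          · have hsp := hn' s s.2 h
            have hct : Commute u t := commute_of_normal_of_disjoint _ _ inferInstance inferInstance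
              (IsPGroup.disjoint_of_ne r (s : ℕ) (hsp ▸ hpr.symm) _ _ Core.pCore_isPGroup
                Core.pCore_isPGroup) u t hu ht
            have hzu : z ∈ cz u := mem_cz.mpr (mem_cz.mp (hle hu)).symm
            have h2 := H.comm_big e hup (mem_cz.mpr hct.symm.eq)
              ((pEl_of_pCore ht).coprime_prime s.2 hr (hsp ▸ hpr))
            exact mem_cz.mpr (mem_cz.mp (h2 hzu)).symm
          · exact hle ((hm' s s.2 h) ▸ ht)
        · exact center_le z (H.central_prime h1 (pEl_of_pCore ht))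
      exact mem_centralizer_iff.mpr fun c hc => mem_cz.mp (hall hc)
    have := Core.fittingSubgroup_isNilpotent (G := G)
    obtain ⟨k, hk⟩ := hz
    have hzF : (⟨z, hF⟩ : Cfsg.fittingSubgroup G) ∈ Cfsg.pCore r (Cfsg.fittingSubgroup G) :=
      CommValues.mem_pCore_of_pow hr ⟨k, Subtype.ext (by
        rw [Subgroup.coe_pow, OneMemClass.coe_one]; exact orderOf_dvd_iff_pow_eq_one.mp hk)⟩
    have h3 : z ∈ (Cfsg.pCore r (Cfsg.fittingSubgroup G)).map (Cfsg.fittingSubgroup G).subtype :=
      ⟨_, hzF, rfl⟩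
    rw [Core.map_pCore_normal] at h3
    exact h3.1

theorem false_of_bad_in_core {z : G} (hz : z ∈ Cfsg.pCore q G) (hzn : sz z = n) : False := by
  classical
  have hqm : q ∣ m := hB.1 q z hq.out (pEl_of_pCore hz) hzn
  have hpn : p ∣ n := by
    obtain ⟨s, hs, hsn⟩ := Nat.exists_prime_and_dvd (n := n) (by have := H.hn; omega)
    exact hn' s hs hsn ▸ hsn
  have hqn : ¬ q ∣ n := fun h => H.not_dvd_both hq.out h hqm
  have hpm : ¬ p ∣ m := H.not_dvd_both hp.out hpn
  have hpq : p ≠ q := fun h => hqn (h ▸ hpn)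
  refine H.symm.false_of_commute_all hqm (pEl_of_pCore hz) hzn fun r g hr hg hgm => ?_
  obtain rfl : r = p := hn' r hr (hB.2 r g hr hg hgm)
  by_contra hgz
  replace hgz : ¬ Commute g z := fun h => hgz h.symm
  have hgzc : ∀ c : G, ¬ Commute g (c * z * c⁻¹) := fun c h =>
    hgz (commute_of_conj (H.hcop_sz hzn hgm).symm c h)
  obtain ⟨P, hP⟩ := exists_sylow_le (show ¬ r ∣ sz g by rw [hgm]; exact hpm)
  have hgP : g ∈ P := mem_sylow_of_commute hg P hP
  obtain ⟨a, hna⟩ : ∃ a : ℕ, n = r ^ a :=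
    ⟨_, Nat.eq_prime_pow_of_unique_prime_dvd (by have := H.hn; omega) fun {s} hs hd => hn' s hs hd⟩
  -- the `P`-orbit of an element of class size `n`
  have hrel : ∀ w : G, sz w = n →
      Nat.card ((P : Subgroup G) ⊓ cz w : Subgroup G) * n = Nat.card (P : Subgroup G) := by
    intro w hw
    have e1 := relIndex_mul_index (inf_le_left : (P : Subgroup G) ⊓ cz w ≤ P)
    rw [inf_relIndex_left] at e1
    have h1 : n ∣ (cz w).relIndex (P : Subgroup G) := by
      have h := index_dvd_of_le (inf_le_right : (P : Subgroup G) ⊓ cz w ≤ cz w)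
      rw [← e1, show (cz w).index = n from hw] at h
      refine Nat.Coprime.dvd_of_dvd_mul_right ?_ h
      rw [hna]
      exact (hp.out.coprime_iff_not_dvd.mpr P.not_dvd_index).pow_left a
    have h2 : (cz w).relIndex (P : Subgroup G) ≤ n := by
      have h := index_inf_le (H := (P : Subgroup G)) (K := cz w)
      rw [← e1, show (cz w).index = n from hw, mul_comm (P : Subgroup G).index n] at h
      exact Nat.le_of_mul_le_mul_right h (Nat.pos_of_ne_zero FiniteIndex.index_ne_zero)
    have h3 := le_antisymm h2 (Nat.le_of_dvd (Nat.pos_of_ne_zero (index_ne_zero_of_finite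
      (H := (cz w).subgroupOf (P : Subgroup G)))) h1)
    have h4 := card_mul_index ((cz w).subgroupOf (P : Subgroup G))
    rw [show ((cz w).subgroupOf (P : Subgroup G)).index = n from h3] at h4
    rw [← h4]
    congr 1
    rw [show Nat.card ((cz w).subgroupOf (P : Subgroup G)) =
      Nat.card (((cz w).subgroupOf (P : Subgroup G)).map (P : Subgroup G).subtype) from
      (card_map_of_injective (P : Subgroup G).subtype_injective).symm, subgroupOf_map_subtype, inf_comm]
  have hsmall : ∀ (w : G) (R : Subgroup G), R ≤ (P : Subgroup G) → R ≤ cz w → n ∣ sz w →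
      Nat.card R * n ≤ Nat.card (P : Subgroup G) := by
    intro w R hR hRw hd
    rw [P.card_eq_multiplicity]
    refine Nat.le_of_dvd (pow_pos hp.out.pos _) ?_
    rw [hna]
    exact card_mul_dvd (P.isPGroup'.to_le hR) hRw (hna ▸ hd)
  -- the abelian normal closure of `z`
  set W := normalClosure ({z} : Set G) with hWdef
  have hWq : W ≤ Cfsg.pCore q G := normalClosure_le_normal (Set.singleton_subset_iff.mpr hz)
  have hWcomm : ∀ x ∈ W, ∀ y ∈ W, x * y = y * x := by
    obtain ⟨S, hS⟩ := exists_sylow_le (show ¬ q ∣ sz z by rw [hzn]; exact hqn)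
    have hle : Cfsg.pCore q G ≤ cz z := (Core.pCore_le_sylow S).trans hS
    intro x hx y hy
    have : W ≤ cz y := by
      refine closure_le _ |>.mpr fun t ht => ?_
      obtain ⟨a', ha', hc⟩ := Group.mem_conjugatesOfSet_iff.mp ht
      rw [Set.mem_singleton_iff] at ha'
      rw [ha'] at hc
      obtain ⟨c, rfl⟩ := isConj_iff.mp hc
      refine mem_cz.mpr (mem_cz.mp ((cz_conj (g := c) (v := z)).mpr (hle ?_))).symm
      simpa using (inferInstance : (Cfsg.pCore q G).Normal).conj_mem _ (hWq hy) c⁻¹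
    exact mem_cz.mp (this hx)
  have hzW : z ∈ W := subset_normalClosure (Set.mem_singleton z)
  have hWn : W.Normal := normalClosure_normal
  -- (A) elements of `W` commuting with `g` are central
  have hfixW : ∀ c ∈ W, Commute g c → c ∈ center G := by
    intro c hc hgc
    set o := orderOf g with ho
    have hA : ∀ (k : ℕ) (x : G), x ∈ W → (x * g) ^ k * (g ^ k)⁻¹ ∈ W := by
      intro k x hx
      induction k with
      | zero => simp
      | succ k ih =>
        rw [show (x * g) ^ (k + 1) * (g ^ (k + 1))⁻¹ = x * (g * ((x * g) ^ k * (g ^ k)⁻¹) * g⁻¹) by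
          rw [pow_succ', pow_succ']; group]
        exact mul_mem hx (hWn.conj_mem _ ih g)
    have hA' : ∀ x ∈ W, (x * g) ^ o ∈ W := fun x hx => by
      simpa [ho, pow_orderOf_eq_one] using hA o x hx
    have hAmul : ∀ (k : ℕ) (x y : G), x ∈ W → y ∈ W → (x * y * g) ^ k * (g ^ k)⁻¹ =
        ((x * g) ^ k * (g ^ k)⁻¹) * ((y * g) ^ k * (g ^ k)⁻¹) := by
      intro k x y hx hy
      induction k with
      | zero => simp
      | succ k ih =>
        have e : ∀ t : G, (t * g) ^ (k + 1) * (g ^ (k + 1))⁻¹ =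
            t * (g * ((t * g) ^ k * (g ^ k)⁻¹) * g⁻¹) := fun t => by
          rw [pow_succ', pow_succ']; group
        have hsw := hWcomm y hy _ (hWn.conj_mem _ (hA k x hx) g)
        rw [e (x * y), ih, e x, e y]
        generalize (x * g) ^ k * (g ^ k)⁻¹ = A at hsw ⊢
        generalize (y * g) ^ k * (g ^ k)⁻¹ = B
        calc x * y * (g * (A * B) * g⁻¹) = x * (y * (g * A * g⁻¹) * (g * B * g⁻¹)) := by
              simp only [mul_assoc, inv_mul_cancel_left]
          _ = x * (g * A * g⁻¹ * y * (g * B * g⁻¹)) := by rw [hsw]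
          _ = _ := by simp only [mul_assoc]
    have hNmul : ∀ x y : G, x ∈ W → y ∈ W → (x * y * g) ^ o = (x * g) ^ o * (y * g) ^ o := fun x y hx hy => by
      simpa [ho, pow_orderOf_eq_one] using hAmul o x y hx hy
    have hNg : ∀ x ∈ W, Commute g ((x * g) ^ o) := by
      intro x hx
      have hN := hA' x hx
      have h1 : (g * x) ^ o = (x * g) ^ o := by
        have e : g * x = x⁻¹ * (x * g) * x⁻¹⁻¹ := by group
        rw [e, conj_pow, hWcomm _ (inv_mem hx) _ hN, mul_inv_cancel_right]
      refine mul_inv_eq_iff_eq_mul.mp ?_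
      rw [← conj_pow, show g * (x * g) * g⁻¹ = g * x by group, h1]
    have hNc : ∀ x, x ∈ Group.conjugatesOfSet ({z} : Set G) → (x * g) ^ o ∈ center G := by
      intro x hxc
      obtain ⟨a', ha', hcj⟩ := Group.mem_conjugatesOfSet_iff.mp hxc
      rw [Set.mem_singleton_iff] at ha'
      rw [ha'] at hcj
      obtain ⟨d, hd⟩ := isConj_iff.mp hcj
      have hx : x ∈ W := hd ▸ hWn.conj_mem _ hzW d
      have hxn : sz x = n := by rw [← hd, sz_conj]; exact hzn
      have hgN := hNg x hx
      have hPN : (P : Subgroup G) ⊓ cz x ≤ (P : Subgroup G) ⊓ cz ((x * g) ^ o) := by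
        rintro y ⟨hyP, hyx⟩
        exact ⟨hyP, mem_cz.mpr ((Commute.mul_right (mem_cz.mp hyx) (mem_cz.mp (hP hyP))).pow_right o).eq⟩
      have hlt : Nat.card ((P : Subgroup G) ⊓ cz x : Subgroup G) <
          Nat.card ((P : Subgroup G) ⊓ cz ((x * g) ^ o) : Subgroup G) := by
        refine lt_of_le_of_ne (card_le_of_le hPN) fun e => hgzc d ?_
        have hgm' : g ∈ (P : Subgroup G) ⊓ cz ((x * g) ^ o) := ⟨hgP, mem_cz.mpr hgN.eq⟩
        rw [← eq_of_le_of_card_ge hPN e.ge] at hgm'
        rw [hd]; exact mem_cz.mp hgm'.2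
      have hnd : ¬ n ∣ sz ((x * g) ^ o) := fun hdv => by
        have h1 := hsmall _ _ inf_le_left inf_le_right hdv
        rw [← hrel _ hxn] at h1
        exact absurd (Nat.le_of_mul_le_mul_right h1 (by have := H.hn; omega)) (not_le.mpr hlt)
      rcases H.range ((x * g) ^ o) with e | e | e | e
      · exact sz_eq_one_iff.mp e
      · exact absurd (e ▸ dvd_rfl) hnd
      · exact absurd (hB.2 q _ hq.out (pEl_of_pCore (hWq (hA' x hx))) e) hqn
      · exact absurd (e ▸ dvd_mul_right n m) hnd
    have h1g : ((1 : G) * g) ^ o = 1 := by rw [one_mul, ho, pow_orderOf_eq_one]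
    have hNall : ∀ x ∈ W, (x * g) ^ o ∈ center G := by
      intro x hx
      refine closure_induction (p := fun x _ => (x * g) ^ o ∈ center G) ?_ ?_ ?_ ?_ hx
      · exact fun x hx => hNc x hx
      · rw [h1g]; exact one_mem _
      · intro x y hx hy ihx ihy
        rw [hNmul x y hx hy]; exact mul_mem ihx ihy
      · intro x hx ih
        have h := hNmul x⁻¹ x (inv_mem hx) hx
        rw [inv_mul_cancel, h1g] at h
        rw [eq_inv_of_mul_eq_one_left h.symm]; exact inv_mem ih
    have h1 := hNall c hc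
    rw [hgc.symm.mul_pow, ho, pow_orderOf_eq_one, mul_one] at h1
    obtain ⟨j, hj⟩ := exists_pow_eq_self_of_coprime (x := c)
      (hg.coprime hp.out hq.out hpq (pEl_of_pCore (hWq hc)))
    rw [← hj]; exact pow_mem h1 j
  -- (B) no primary element of class size `n` commutes with `g`
  have hnone : ∀ b : G, PEl q b → sz b = n → ¬ Commute g b := by
    intro b hb hbn hgb
    obtain ⟨S, hS⟩ := exists_sylow_le (show ¬ q ∣ sz b by rw [hbn]; exact hqn)
    obtain ⟨d, hdS, hdle⟩ := exists_central_conj (pEl_of_pCore hz) (show ¬ q ∣ sz z by rw [hzn]; exact hqn) S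
    set z' := d * z * d⁻¹ with hz'
    have hndq : ¬ q ∣ sz (z' * b) := fun h => S.not_dvd_index (h.trans (index_dvd_of_le fun c hc =>
      mem_cz.mpr (Commute.mul_right (mem_cz.mp (hdle hc)) (mem_cz.mp (hS hc)))))
    have hz'W : z' ∈ W := hWn.conj_mem _ hzW d
    have hW' : ∀ x : G, x * z' * x⁻¹ ∈ W := fun x => hWn.conj_mem _ hz'W x
    have hsplit : (P : Subgroup G) ⊓ cz (z' * b) ≤ (P : Subgroup G) ⊓ cz z' ⊓ cz b := by
      rintro x ⟨hxP, hxw⟩
      have hxg : Commute x g := mem_cz.mp (hP hxP)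
      set c := z'⁻¹ * (x * z' * x⁻¹) with hcdef
      have hcW : c ∈ W := mul_mem (inv_mem hz'W) (hW' x)
      have heq : x * z' * x⁻¹ * (x * b * x⁻¹) = z' * b := by
        rw [show x * z' * x⁻¹ * (x * b * x⁻¹) = x * (z' * b) * x⁻¹ by group]
        exact mul_inv_eq_iff_eq_mul.mpr (mem_cz.mp hxw)
      have hc2 : c = b * (x * b * x⁻¹)⁻¹ := by
        rw [hcdef, eq_mul_inv_iff_mul_eq, mul_assoc, heq, inv_mul_cancel_left]
      have hgc : Commute g c := by
        rw [hc2]
        exact hgb.mul_right ((((hxg.symm.mul_right hgb)).mul_right hxg.symm.inv_right).inv_right)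
      have hcc := hfixW c hcW hgc
      have hconj : x * z' * x⁻¹ = z' * c := by rw [hcdef, mul_inv_cancel_left]
      have hcx : x * c * x⁻¹ = c := by
        rw [mem_center_iff.mp hcc x, mul_inv_cancel_right]
      have hit : ∀ k : ℕ, x ^ k * z' * (x ^ k)⁻¹ = z' * c ^ k := by
        intro k
        induction k with
        | zero => simp
        | succ k ih =>
          calc x ^ (k + 1) * z' * (x ^ (k + 1))⁻¹ = x * (x ^ k * z' * (x ^ k)⁻¹) * x⁻¹ := by
                rw [pow_succ']; group
            _ = (x * z' * x⁻¹) * (x * c ^ k * x⁻¹) := by rw [ih]; group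
            _ = z' * c ^ (k + 1) := by rw [hconj, ← conj_pow, hcx, mul_assoc, ← pow_succ']
      have hc1 : c = 1 := by
        have h := hit (orderOf x)
        rw [pow_orderOf_eq_one, one_mul, inv_one, mul_one, left_eq_mul] at h
        have hd := orderOf_dvd_of_pow_eq_one h
        refine (pEl_of_pCore (hWq hcW)).eq_one_of_coprime (Nat.Coprime.coprime_dvd_left hd ?_)
        exact (pEl_of_mem P.isPGroup' hxP).coprime_prime hp.out hq.out hpq
      refine ⟨⟨hxP, mem_cz.mpr ?_⟩, mem_cz.mpr ?_⟩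
      · rw [hc1, mul_one] at hconj
        exact mul_inv_eq_iff_eq_mul.mp hconj
      · rw [hc1, eq_comm, mul_inv_eq_one, eq_comm] at hc2
        exact mul_inv_eq_iff_eq_mul.mp hc2
    rcases H.range (z' * b) with e | e | e | e
    · have : g ∈ (P : Subgroup G) ⊓ cz z' ⊓ cz b :=
        hsplit ⟨hgP, mem_cz.mpr (mem_center_iff.mp (sz_eq_one_iff.mp e) g)⟩
      exact hgzc d (mem_cz.mp this.1.2)
    · have h1 := hrel _ e
      rw [← hrel b hbn] at h1
      have hle := hsplit.trans (inf_le_inf_right (cz b) inf_le_left)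
      have h2 := eq_of_le_of_card_ge hle
        (Nat.eq_of_mul_eq_mul_right (by have := H.hn; omega) h1).ge
      have : g ∈ (P : Subgroup G) ⊓ cz (z' * b) := h2 ▸ ⟨hgP, mem_cz.mpr hgb.eq⟩
      exact hgzc d (mem_cz.mp (hsplit this).1.2)
    · exact hndq (e ▸ hqm)
    · exact hndq (e ▸ dvd_mul_of_dvd_right hqm n)
  -- (C) and (D): full centralizers
  have hfq : Full G q m := by
    rw [← hgm]
    refine full_of_central fun t ht htp => by_contra fun hnc => ?_
    rcases H.range t with e | e | e | e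
    · exact hnc (sz_eq_one_iff.mp e)
    · exact hnone t htp e (mem_cz.mp ht).symm
    · exact hqn (hB.2 q t hq.out htp e)
    · obtain ⟨d, hd⟩ := commute_conj_of_not_dvd htp (show ¬ q ∣ sz z by rw [hzn]; exact hqn)
      have h2 := H.comm_big e htp (mem_cz.mpr (mem_cz.mp ht).symm) (hg.coprime_prime hp.out hq.out hpq)
      exact hgzc d (mem_cz.mp (h2 (mem_cz.mpr hd.symm.eq))).symm
  have hfp : Full G r n := by
    rw [← hzn]
    refine full_of_central fun t ht htp => by_contra fun hnc => ?_
    rcases H.range t with e | e | e | e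
    · exact hnc (sz_eq_one_iff.mp e)
    · exact hpm (hB.1 r t hp.out htp e)
    · exact false_of_full (mem_cz.mpr (mem_cz.mp ht).symm) (pEl_of_pCore hz) (H.nc_n hzn)
        (e.symm ▸ hfq)
    · obtain ⟨d, hd⟩ := commute_conj_of_not_dvd htp (show ¬ r ∣ sz g by rw [hgm]; exact hpm)
      have h2 := H.comm_big e htp (mem_cz.mpr (mem_cz.mp ht).symm)
        ((pEl_of_pCore hz).coprime_prime hq.out hp.out hpq.symm)
      have h3 : Commute (d * g * d⁻¹) z := mem_cz.mp (h2 (mem_cz.mpr hd.symm.eq))
      exact hgz (commute_of_conj (H.hcop_sz hzn hgm) d h3.symm).symm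
  obtain ⟨w, hw⟩ := H.exnm
  obtain ⟨s, t, hs, ht, hnc, hmem⟩ := exists_nc_part (H.nc_nm hw)
  have := Fact.mk hs
  refine false_of_full (w := w) ?_ ht hnc ?_
  · obtain ⟨i, rfl⟩ := mem_zpowers_iff.mp hmem
    exact mem_cz.mpr ((Commute.refl w).zpow_left i).eq
  · have hnm : n * m ≠ 0 := Nat.mul_ne_zero (by have := H.hn; omega) (by have := H.hm; omega)
    rw [hw]
    rcases H.prime_dvd hs ht hnc with h | h
    · obtain rfl := hn' s hs h
      exact hfp.mono hnm (dvd_mul_right _ _)
    · obtain rfl := hm' s hs h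
      exact hfq.mono hnm (dvd_mul_left _ _)

omit hp hq hB hn' hm' in
theorem no_bad {p : ℕ} [hp : Fact p.Prime] (hpn : p ∣ n) {y : G} (hy : PEl p y) : sz y ≠ m := by
  intro hym
  have hB := H.allBad hpn hy hym
  obtain ⟨p, q, y, z, hp, hq, hy, hym, hz, hzn, hco⟩ := H.exists_pair hB
  have := Fact.mk hp
  have := Fact.mk hq
  have hn' : ∀ s : ℕ, s.Prime → s ∣ n → s = p := fun s hs hd =>
    H.eq_prime_of_dvd hB hq hp hy hym hz hzn hco hs hd
  have hm' : ∀ s : ℕ, s.Prime → s ∣ m → s = q := fun s hs hd =>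
    H.symm.eq_prime_of_dvd hB.symm hp hq hz hzn hy hym hco.symm hs hd
  by_cases hU : Cfsg.pCore q G ≤ center G
  · by_cases hT : Cfsg.pCore p G ≤ center G
    · have : Group.IsSolvable G := H.isSolvable_of_primes hp hq fun s hs hd =>
        (hs.dvd_mul.mp hd).imp (hn' s hs) (hm' s hs)
      have hF : Cfsg.fittingSubgroup G ≤ center G := by
        rw [Core.fittingSubgroup_eq_iSup_pCore]
        refine iSup_le fun s => ?_
        have := Fact.mk s.2
        by_cases h1 : (s : ℕ) ∣ n * m
        · rcases s.2.dvd_mul.mp h1 with h | h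
          · rw [hn' s s.2 h]; exact hT
          · rw [hm' s s.2 h]; exact hU
        · exact fun t ht => H.central_prime h1 (pEl_of_pCore ht)
      refine H.nc_n hzn (hF (Core.centralizer_fittingSubgroup_le ?_))
      exact mem_centralizer_iff.mpr fun c hc => (mem_center_iff.mp (hF hc) z).symm
    · obtain ⟨u, hu, hnc⟩ := SetLike.not_le_iff_exists.mp hT
      obtain ⟨y', hy', hy'm⟩ := H.symm.exists_bad_in_core hB.symm hm' hn' hu hnc
      exact H.symm.false_of_bad_in_core hB.symm hm' hn' hy' hy'm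
  · obtain ⟨u, hu, hnc⟩ := SetLike.not_le_iff_exists.mp hU
    obtain ⟨z', hz', hz'n⟩ := H.exists_bad_in_core hB hn' hm' hu hnc
    exact H.false_of_bad_in_core hB hn' hm' hz' hz'n

end Hyp

end Cfsg.Agent.ClassNM
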