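import Cfsg.Agent.CoprimeClass.Basic
import Cfsg.Agent.ClassGraph.Coprime
import Cfsg.Agent.TwoClassSizes.Main
import Cfsg.Agent.CommValues.Parts

/-!
Class sizes `1, n, m, n * m` with coprime `n, m`: basic tools.
-/

set_option autoImplicit false
set_option linter.unusedSectionVars false

namespace Cfsg.Agent.ClassNM

open Subgroup
open CoprimeClass (cz sz mem_cz center_le cz_le_of_mem_zpowers cz_mul)

universe u

variable {G : Type u} [Group G] [Finite G]

/-- The class sizes are `1, n, m, n * m`. -/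
structure Hyp (G : Type u) [Group G] (n m : ℕ) : Prop where
  hn : 1 < n
  hm : 1 < m
  hcop : n.Coprime m
  range : ∀ x : G, sz x = 1 ∨ sz x = n ∨ sz x = m ∨ sz x = n * m
  exn : ∃ x : G, sz x = n
  exm : ∃ x : G, sz x = m
  exnm : ∃ x : G, sz x = n * m

/-- An element of prime power order. -/
def PEl (r : ℕ) (x : G) : Prop := ∃ k, orderOf x ∣ r ^ k

omit [Finite G] in
theorem PEl.of_mem {r : ℕ} {x y : G} (h : PEl r x) (hy : y ∈ zpowers x) : PEl r y := by
  obtain ⟨k, hk⟩ := h
  exact ⟨k, (orderOf_dvd_of_mem_zpowers hy).trans hk⟩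

omit [Finite G] in
theorem PEl.conj {r : ℕ} {x : G} (h : PEl r x) (g : G) : PEl r (g * x * g⁻¹) := by
  obtain ⟨k, hk⟩ := h
  refine ⟨k, orderOf_dvd_of_pow_eq_one ?_⟩
  rw [conj_pow, orderOf_dvd_iff_pow_eq_one.mp hk]; group

omit [Finite G] in
theorem PEl.coprime {r s : ℕ} {x y : G} (hr : r.Prime) (hs : s.Prime) (hrs : r ≠ s)
    (hx : PEl r x) (hy : PEl s y) : (orderOf x).Coprime (orderOf y) := by
  obtain ⟨k, hk⟩ := hx
  obtain ⟨l, hl⟩ := hy
  exact Nat.Coprime.coprime_dvd_left hk (Nat.Coprime.coprime_dvd_right hl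
    (Nat.Coprime.pow k l ((Nat.coprime_primes hr hs).2 hrs)))

omit [Finite G] in
theorem PEl.coprime_prime {r s : ℕ} {x : G} (hr : r.Prime) (hs : s.Prime) (hrs : r ≠ s)
    (hx : PEl r x) : (orderOf x).Coprime s := by
  obtain ⟨k, hk⟩ := hx
  exact Nat.Coprime.coprime_dvd_left hk (Nat.Coprime.pow_left k ((Nat.coprime_primes hr hs).2 hrs))

omit [Finite G] in
theorem PEl.eq_one_of_coprime {r : ℕ} {x : G} (hx : PEl r x) (h : (orderOf x).Coprime r) :
    x = 1 := by
  obtain ⟨k, hk⟩ := hx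
  exact orderOf_eq_one_iff.mp (Nat.eq_one_of_dvd_coprimes (h.pow_right k) dvd_rfl hk)

omit [Finite G] in
theorem pEl_of_mem {r : ℕ} {S : Subgroup G} (hS : IsPGroup r S) {x : G} (hx : x ∈ S) : PEl r x := by
  obtain ⟨k, hk⟩ := hS ⟨x, hx⟩
  exact ⟨k, orderOf_dvd_of_pow_eq_one (by simpa using congrArg Subtype.val hk)⟩

omit [Finite G] in
theorem PEl.isPGroup {r : ℕ} [Fact r.Prime] {x : G} (hx : PEl r x) : IsPGroup r (zpowers x) := by
  obtain ⟨k, hk⟩ := hx
  obtain ⟨j, -, hj⟩ := (Nat.dvd_prime_pow Fact.out).mp hk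
  exact IsPGroup.of_card (Nat.card_zpowers x ▸ hj)

theorem exists_sylow_mem {r : ℕ} [Fact r.Prime] {x : G} (hx : PEl r x) :
    ∃ S : Sylow r G, x ∈ S := by
  obtain ⟨S, hS⟩ := hx.isPGroup.exists_le_sylow
  exact ⟨S, hS (mem_zpowers x)⟩

omit [Finite G] in
theorem cz_conj {g v c : G} : c ∈ cz (g * v * g⁻¹) ↔ g⁻¹ * c * g ∈ cz v := by
  rw [mem_cz, mem_cz]
  constructor <;> intro h
  · calc g⁻¹ * c * g * v = g⁻¹ * (c * (g * v * g⁻¹)) * g := by group
      _ = _ := by rw [h]; group
  · calc c * (g * v * g⁻¹) = g * (g⁻¹ * c * g * v) * g⁻¹ := by group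
      _ = _ := by rw [h]; group

theorem sz_conj (g v : G) : sz (g * v * g⁻¹) = sz v := by
  rw [← CoprimeClass.card_cls, ← CoprimeClass.card_cls]
  congr 1
  congr 1
  refine Set.ext fun z => ⟨?_, ?_⟩
  · rintro ⟨h, rfl⟩
    exact ⟨h * g, by group⟩
  · rintro ⟨h, rfl⟩
    exact ⟨h * g⁻¹, by group⟩

theorem sz_pos (v : G) : 0 < sz v := Nat.pos_of_ne_zero FiniteIndex.index_ne_zero

theorem sz_eq_one_iff {x : G} : sz x = 1 ↔ x ∈ center G := by
  refine ⟨fun h => CoprimeClass.central_of_sz_one h.le, fun h => index_eq_one.mpr (eq_top_iff.mpr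
    fun g _ => mem_cz.mpr (mem_center_iff.mp h g))⟩

theorem cz_eq_of_le {x y : G} (h : cz x ≤ cz y) (hs : sz x = sz y) : cz x = cz y := by
  refine le_antisymm h (relIndex_eq_one.mp ?_)
  have := relIndex_mul_index h
  rw [show (cz x).index = (cz y).index from hs] at this
  exact Nat.eq_of_mul_eq_mul_right (sz_pos y) (this.trans (one_mul _).symm)

omit [Finite G] in
theorem cz_mul_center {a b : G} (hb : b ∈ center G) : cz (a * b) = cz a := by
  ext g
  have hbg : g * b = b * g := mem_center_iff.mp hb g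
  rw [mem_cz, mem_cz]
  constructor <;> intro h
  · refine mul_right_cancel (b := b) ?_
    rw [mul_assoc g a b, h, mul_assoc a g b, hbg, mul_assoc]
  · rw [← mul_assoc, h, mul_assoc a g b, hbg, mul_assoc]

/-- A prime part outside the centre. -/
theorem exists_nc_part {w : G} (hw : w ∉ center G) :
    ∃ r t, r.Prime ∧ PEl r t ∧ t ∉ center G ∧ t ∈ zpowers w := by
  by_contra hc
  push Not at hc
  exact hw (CoprimeClass.mem_of_parts _ w fun d hd r a hr ho =>
    by_contra fun h => hc r d hr ⟨a, ho.dvd⟩ h hd)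

/-- The `p`-part and the `p'`-part. -/
theorem exists_split (w : G) {p : ℕ} (hp : p.Prime) :
    ∃ a b : G, a * b = w ∧ a ∈ zpowers w ∧ b ∈ zpowers w ∧ Commute a b ∧ PEl p a ∧
      (orderOf b).Coprime p := by
  obtain ⟨e, e', h, hn, hc, -⟩ := CommValues.exists_parts w hp
  exact ⟨w ^ e, w ^ e', h, pow_mem (mem_zpowers w) e, pow_mem (mem_zpowers w) e',
    Commute.pow_pow_self w e e', hn, hc⟩

omit [Finite G] in
theorem coprime_of_pEl {p : ℕ} {a b : G} (ha : PEl p a) (hb : (orderOf b).Coprime p) :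
    (orderOf a).Coprime (orderOf b) := by
  obtain ⟨k, hk⟩ := ha
  exact Nat.Coprime.coprime_dvd_left hk (hb.symm.pow_left k)

/-- An element every element commutes with up to conjugation is central. -/
theorem center_of_meet {x : G} (h : ∀ w : G, ∃ g : G, Commute w (g * x * g⁻¹)) : x ∈ center G := by
  by_contra hx
  obtain ⟨w, hw⟩ := TwoClassSizes.exists_not_mem_conj (A := cz x)
    (fun e => hx (mem_center_iff.mpr fun g => mem_cz.mp (e ▸ mem_top g)))
  obtain ⟨g, hg⟩ := h w
  exact hw g (cz_conj.mp (mem_cz.mpr hg))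

/-- Conjugates of elements with coprime class sizes: commuting is all or nothing. -/
theorem commute_all {u v : G} (hcop : (sz u).Coprime (sz v)) (h : Commute u v) (g : G) :
    Commute u (g * v * g⁻¹) := by
  obtain ⟨a, ha, b, hb, rfl⟩ := CoprimeClass.exists_mem_cz hcop g
  rw [show a * b * v * (a * b)⁻¹ = a * (b * v * b⁻¹) * a⁻¹ by group,
    CoprimeClass.conj_eq_of_mem hb]
  calc u * (a * v * a⁻¹) = (a * u * a⁻¹) * (a * v * a⁻¹) := by rw [CoprimeClass.conj_eq_of_mem ha]
    _ = a * (u * v) * a⁻¹ := by group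
    _ = a * (v * u) * a⁻¹ := by rw [h.eq]
    _ = (a * v * a⁻¹) * (a * u * a⁻¹) := by group
    _ = a * v * a⁻¹ * u := by rw [CoprimeClass.conj_eq_of_mem ha]

theorem commute_of_conj {u v : G} (hcop : (sz u).Coprime (sz v)) (g : G)
    (h : Commute u (g * v * g⁻¹)) : Commute u v := by
  have := commute_all (u := u) (v := g * v * g⁻¹) (by rwa [sz_conj]) h g⁻¹
  rwa [show g⁻¹ * (g * v * g⁻¹) * g⁻¹⁻¹ = v by group] at this

theorem exists_sylow_le {s : ℕ} [Fact s.Prime] {H : Subgroup G} (h : ¬ s ∣ H.index) :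
    ∃ S : Sylow s G, (S : Subgroup G) ≤ H := by
  obtain ⟨R⟩ := (inferInstance : Nonempty (Sylow s H))
  have hc : Nat.card ((R : Subgroup H).map H.subtype) = s ^ (Nat.card G).factorization s := by
    rw [card_map_of_injective H.subtype_injective, R.card_eq_multiplicity, ← H.card_mul_index,
      Nat.factorization_mul Nat.card_pos.ne' FiniteIndex.index_ne_zero, Finsupp.add_apply,
      Nat.factorization_eq_zero_of_not_dvd h, add_zero]
  exact ⟨Sylow.ofCard _ hc, map_subtype_le _⟩

theorem exists_conj_mem {s : ℕ} [Fact s.Prime] {x : G} (hx : PEl s x) (S : Sylow s G) :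
    ∃ g : G, g * x * g⁻¹ ∈ S := by
  obtain ⟨T, hT⟩ := exists_sylow_mem hx
  obtain ⟨g, hg⟩ := MulAction.exists_smul_eq G T S
  refine ⟨g, ?_⟩
  have hsub : (S : Subgroup G) = (T : Subgroup G).map (MulAut.conj g).toMonoidHom := by
    rw [← hg]; rfl
  show g * x * g⁻¹ ∈ (S : Subgroup G)
  rw [hsub]
  exact ⟨x, hT, rfl⟩

theorem commute_conj_of_not_dvd {s : ℕ} [Fact s.Prime] {x v : G} (hx : PEl s x)
    (hv : ¬ s ∣ sz v) : ∃ g : G, Commute x (g * v * g⁻¹) := by
  obtain ⟨S, hS⟩ := exists_sylow_le hv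
  obtain ⟨g, hg⟩ := exists_conj_mem hx S
  refine ⟨g⁻¹, mem_cz.mp (cz_conj.mpr ?_)⟩
  simpa using hS hg

theorem mem_sylow_of_commute {s : ℕ} [Fact s.Prime] {y : G} (hy : PEl s y) (S : Sylow s G)
    (h : (S : Subgroup G) ≤ cz y) : y ∈ S := by
  have hn : zpowers y ≤ normalizer ((S : Subgroup G) : Set G) :=
    le_trans (zpowers_le.mpr (mem_centralizer_iff.mpr fun c hc => mem_cz.mp (h hc)))
      (centralizer_le_normalizer _)
  have h1 := hy.isPGroup.to_sup_of_normal_right' S.isPGroup' hn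
  have h2 := S.is_maximal' h1 le_sup_right
  show y ∈ (S : Subgroup G)
  rw [← h2]
  exact (le_sup_left (b := (S : Subgroup G))) (mem_zpowers y)

/-- An element of `s`-power order with class size prime to `s` is central in a Sylow `s`-subgroup up
to conjugation. -/
theorem exists_central_conj {s : ℕ} [Fact s.Prime] {y : G} (hy : PEl s y) (h : ¬ s ∣ sz y)
    (S : Sylow s G) :
    ∃ g : G, g * y * g⁻¹ ∈ S ∧ (S : Subgroup G) ≤ cz (g * y * g⁻¹) := by
  obtain ⟨T, hT⟩ := exists_sylow_le h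
  obtain ⟨g, hg⟩ := MulAction.exists_smul_eq G T S
  have hle : (S : Subgroup G) ≤ cz (g * y * g⁻¹) := by
    intro c hc
    have hsub : (S : Subgroup G) = (T : Subgroup G).map (MulAut.conj g).toMonoidHom := by
      rw [← hg]; rfl
    rw [hsub] at hc
    obtain ⟨d, hd, rfl⟩ := hc
    refine cz_conj.mpr ?_
    simpa [mul_assoc] using hT hd
  exact ⟨g, mem_sylow_of_commute (hy.conj g) S hle, hle⟩

/-- A `p`-subgroup of a centralizer. -/
theorem card_mul_dvd {p : ℕ} [hp : Fact p.Prime] {R : Subgroup G} (hR : IsPGroup p R) {w : G}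
    (h : R ≤ cz w) {k : ℕ} (hk : p ^ k ∣ sz w) :
    Nat.card R * p ^ k ∣ p ^ (Nat.card G).factorization p := by
  have h1 : Nat.card R * p ^ k ∣ Nat.card G := by
    rw [← (cz w).card_mul_index]
    exact mul_dvd_mul (card_dvd_of_le h) hk
  obtain ⟨j, hj⟩ := IsPGroup.iff_card.mp hR
  rw [hj, ← pow_add] at h1 ⊢
  exact pow_dvd_pow _ ((hp.out.pow_dvd_iff_le_factorization Nat.card_pos.ne').mp h1)

/-- The `s`-part of `k` times the `s`-part of the centre exhausts the group. -/
def Full (G : Type u) [Group G] (s k : ℕ) : Prop :=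
  (Nat.card G).factorization s ≤ k.factorization s + (Nat.card (center G)).factorization s

theorem full_of_central {s : ℕ} [hs : Fact s.Prime] {w : G}
    (h : ∀ t ∈ cz w, PEl s t → t ∈ center G) : Full G s (sz w) := by
  obtain ⟨R⟩ := (inferInstance : Nonempty (Sylow s (cz w)))
  have hR : (R : Subgroup (cz w)).map (cz w).subtype ≤ center G := by
    rintro _ ⟨t, ht, rfl⟩
    refine h _ t.2 ?_
    obtain ⟨k, hk⟩ := pEl_of_mem R.isPGroup' ht
    exact ⟨k, by rwa [← Subgroup.orderOf_coe] at hk⟩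
  have h1 := card_dvd_of_le hR
  rw [card_map_of_injective (cz w).subtype_injective, R.card_eq_multiplicity] at h1
  have h2 := (hs.out.pow_dvd_iff_le_factorization Nat.card_pos.ne').mp h1
  have h3 := congrArg (fun k => k.factorization s) (cz w).card_mul_index
  simp only [Nat.factorization_mul Nat.card_pos.ne' (sz_pos w).ne', Finsupp.add_apply] at h3
  show _ ≤ (sz w).factorization s + _
  change (Nat.card (cz w)).factorization s + (sz w).factorization s = _ at h3
  omega

theorem false_of_full {s : ℕ} [hs : Fact s.Prime] {w t : G} (ht : t ∈ cz w) (hp : PEl s t)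
    (hnc : t ∉ center G) (h : Full G s (sz w)) : False := by
  obtain ⟨R⟩ := (inferInstance : Nonempty (Sylow s (center G)))
  set R' := (R : Subgroup (center G)).map (center G).subtype with hR'
  have hRp : IsPGroup s R' := R.isPGroup'.map _
  have hRc : R' ≤ center G := map_subtype_le _
  have hsup := hp.isPGroup.to_sup_of_normal_right' hRp
    (le_trans (zpowers_le.mpr (mem_centralizer_iff.mpr fun c hc => (mem_center_iff.mp (hRc hc) t).symm))
      (centralizer_le_normalizer _))
  have hle : zpowers t ⊔ R' ≤ cz w := sup_le (zpowers_le.mpr ht) (hRc.trans (center_le w))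
  have hdv : s ^ (sz w).factorization s ∣ sz w :=
    Nat.ordProj_dvd _ _
  have h1 := card_mul_dvd hsup hle hdv
  have hlt : Nat.card R' < Nat.card (zpowers t ⊔ R' : Subgroup G) := by
    refine lt_of_le_of_ne (card_le_of_le le_sup_right) fun e => hnc ?_
    have := eq_of_le_of_card_ge (le_sup_right (a := zpowers t)) e.ge
    exact hRc (this ▸ (le_sup_left (b := R')) (mem_zpowers t))
  obtain ⟨j, hj⟩ := IsPGroup.iff_card.mp hsup
  rw [hj, ← pow_add, Nat.pow_dvd_pow_iff_le_right hs.out.one_lt] at h1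
  rw [hj, hR', card_map_of_injective (center G).subtype_injective, R.card_eq_multiplicity] at hlt
  have := (Nat.pow_lt_pow_iff_right hs.out.one_lt).mp hlt
  unfold Full at h
  omega

namespace Hyp

variable {n m : ℕ} (H : Hyp G n m)

include H

theorem symm : Hyp G m n := by
  refine ⟨H.hm, H.hn, H.hcop.symm, fun x => ?_, H.exm, H.exn, ?_⟩
  · rcases H.range x with h | h | h | h
    · exact .inl h
    · exact .inr (.inr (.inl h))
    · exact .inr (.inl h)
    · exact .inr (.inr (.inr (by rw [h, mul_comm])))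
  · rw [mul_comm]; exact H.exnm

theorem hcop_sz {u v : G} (hu : sz u = n) (hv : sz v = m) : (sz u).Coprime (sz v) := by
  rw [hu, hv]; exact H.hcop

theorem not_dvd_both {r : ℕ} (hr : r.Prime) (h1 : r ∣ n) (h2 : r ∣ m) : False :=
  hr.one_lt.ne' (Nat.eq_one_of_dvd_coprimes H.hcop h1 h2)

theorem m_not_dvd_n : ¬ m ∣ n := fun h => by
  have := Nat.eq_one_of_dvd_coprimes H.hcop h dvd_rfl
  have := H.hm; omega

theorem sz_of_n_dvd {x : G} (h : n ∣ sz x) : sz x = n ∨ sz x = n * m := by
  rcases H.range x with e | e | e | e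
  · rw [e, Nat.dvd_one] at h; have := H.hn; omega
  · exact .inl e
  · rw [e] at h; exact absurd h H.symm.m_not_dvd_n
  · exact .inr e

theorem sz_of_nm_dvd {x : G} (h : n * m ∣ sz x) : sz x = n * m := by
  rcases H.sz_of_n_dvd (dvd_trans (dvd_mul_right n m) h) with e | e
  · rw [e] at h; exact absurd (dvd_trans (dvd_mul_left m n) h) H.m_not_dvd_n
  · exact e

theorem sz_of_dvd_n {x : G} (h : sz x ∣ n) : sz x = 1 ∨ sz x = n := by
  rcases H.range x with e | e | e | e
  · exact .inl e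
  · exact .inr e
  · rw [e] at h; exact absurd h H.m_not_dvd_n
  · rw [e] at h; exact absurd (dvd_trans (dvd_mul_left m n) h) H.m_not_dvd_n

theorem nc_n {x : G} (h : sz x = n) : x ∉ center G := fun hc => by
  rw [sz_eq_one_iff.mpr hc] at h; have := H.hn; omega

theorem nc_nm {x : G} (h : sz x = n * m) : x ∉ center G := fun hc => by
  rw [sz_eq_one_iff.mpr hc] at h
  have := Nat.eq_one_of_mul_eq_one_right h.symm
  have := H.hn; omega

/-- The class size of a product of commuting elements of coprime orders. -/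
theorem sz_mul_n {u c : G} (hu : sz u = n) (hc : Commute u c)
    (hcop : (orderOf u).Coprime (orderOf c)) :
    cz (u * c) = cz u ⊓ cz c ∧ (sz (u * c) = n ∨ sz (u * c) = n * m) := by
  have e := cz_mul hc hcop
  refine ⟨e, H.sz_of_n_dvd ?_⟩
  rw [← hu]
  exact index_dvd_of_le (e ▸ inf_le_left)

/-- In the centralizer of an element with the largest class, the elements of coprime order are
central. -/
theorem comm_big {r : ℕ} {w c : G} (hw : sz w = n * m) (hwp : PEl r w) (hc : c ∈ cz w)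
    (hcr : (orderOf c).Coprime r) : cz w ≤ cz c := by
  have e := cz_mul (mem_cz.mp hc).symm (coprime_of_pEl hwp hcr)
  have hle : cz (w * c) ≤ cz w := e ▸ inf_le_left
  have hs : sz (w * c) = sz w := by
    rw [hw]; exact H.sz_of_nm_dvd (hw ▸ index_dvd_of_le hle)
  exact (cz_eq_of_le hle hs).symm.trans_le (e ▸ inf_le_right)

theorem central_prime {r : ℕ} [Fact r.Prime] (h : ¬ r ∣ n * m) {x : G} (hx : PEl r x) :
    x ∈ center G := by
  refine center_of_meet fun w => ?_
  have hw : ¬ r ∣ sz w := by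
    rcases H.range w with e | e | e | e <;> rw [e]
    · exact (Fact.out : r.Prime).not_dvd_one
    · exact fun h' => h (dvd_mul_of_dvd_left h' _)
    · exact fun h' => h (dvd_mul_of_dvd_right h' _)
    · exact h
  obtain ⟨S, hS⟩ := exists_sylow_le hw
  obtain ⟨g, hg⟩ := exists_conj_mem hx S
  exact ⟨g, (mem_cz.mp (hS hg)).symm⟩

theorem prime_dvd {r : ℕ} (hr : r.Prime) {x : G} (hx : PEl r x) (hnc : x ∉ center G) :
    r ∣ n ∨ r ∣ m := by
  have := Fact.mk hr
  exact hr.dvd_mul.mp (by_contra fun h => hnc (H.central_prime h hx))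

theorem exists_nc {s : ℕ} [Fact s.Prime] (h : s ∣ n * m) :
    ∃ x : G, PEl s x ∧ x ∉ center G := by
  obtain ⟨w, hw⟩ := H.exnm
  obtain ⟨S⟩ := (inferInstance : Nonempty (Sylow s G))
  by_contra hc
  push Not at hc
  refine S.not_dvd_index ((hw ▸ h).trans (index_dvd_of_le ?_))
  exact fun x hx => center_le w (hc x (pEl_of_mem S.isPGroup' hx))

/-- An element of index `n` has a prime part with the same centralizer. -/
theorem exists_primary {w : G} (hw : sz w = n) :
    ∃ r t, r.Prime ∧ PEl r t ∧ t ∈ zpowers w ∧ sz t = n ∧ cz t = cz w := by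
  obtain ⟨r, t, hr, ht, hnc, hmem⟩ := exists_nc_part (H.nc_n hw)
  have hle : cz w ≤ cz t := cz_le_of_mem_zpowers hmem
  have hd : sz t ∣ n := hw ▸ index_dvd_of_le hle
  have he : sz t = n := (H.sz_of_dvd_n hd).resolve_left fun e => hnc (sz_eq_one_iff.mp e)
  exact ⟨r, t, hr, ht, hmem, he, (cz_eq_of_le hle (hw.trans he.symm)).symm⟩

/-- The centralizer of a central element of a Sylow subgroup inside the centralizer of an element
of index `n`. -/
theorem cz_eq_of_center {r s : ℕ} (hr : r.Prime) [Fact s.Prime] (hrs : r ≠ s) (hsm : s ∣ m)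
    {u z : G} (hu : sz u = n) (hup : PEl r u) (S : Sylow s G) (hS : (S : Subgroup G) ≤ cz u)
    (hz : z ∈ S) (hzS : (S : Subgroup G) ≤ cz z) (hnc : z ∉ center G) : cz z = cz u := by
  obtain ⟨e, hs'⟩ := H.sz_mul_n hu (mem_cz.mp (hS hz)).symm
    (hup.coprime hr Fact.out hrs (pEl_of_mem S.isPGroup' hz))
  have hnd : ¬ s ∣ sz (u * z) := fun h =>
    S.not_dvd_index (h.trans (index_dvd_of_le (e ▸ le_inf hS hzS)))
  have h1 : sz (u * z) = n := hs'.resolve_right fun h => hnd (h ▸ dvd_mul_of_dvd_right hsm _)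
  have h2 : cz (u * z) = cz u := cz_eq_of_le (e ▸ inf_le_left) (h1.trans hu.symm)
  have hle : cz u ≤ cz z := h2 ▸ (e ▸ inf_le_right)
  have hz1 : sz z = n := (H.sz_of_dvd_n (hu ▸ index_dvd_of_le hle)).resolve_left
    fun h => hnc (sz_eq_one_iff.mp h)
  exact (cz_eq_of_le hle (hu.trans hz1.symm)).symm

end Hyp

end Cfsg.Agent.ClassNM
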