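import Cfsg.Agent.ClassNM.Struct
import Cfsg.Agent.Core.PCore
import Mathlib.GroupTheory.Nilpotent

/-!
Class sizes `1, n, m, n * m`: no prime power element has the largest class.
-/

set_option autoImplicit false
set_option linter.unusedSectionVars false

namespace Cfsg.Agent.ClassNM

open Subgroup
open scoped commutatorElement
open CoprimeClass (cz sz mem_cz center_le cz_le_of_mem_zpowers cz_mul)

universe u

variable {G : Type u} [Group G] [Finite G] {n m : ℕ}

/-- In a structured centralizer a Sylow `p`-subgroup contains every element of `p`-power order. -/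
theorem mem_sylow_of_struct {p q : ℕ} [hp : Fact p.Prime] (hstr : PStruct G m p) (hq : q.Prime)
    {v : G} (hv : PEl q v) (hvm : sz v = m) (P : Sylow p G) (hP : (P : Subgroup G) ≤ cz v) {c : G}
    (hc : c ∈ cz v) (hcp : PEl p c) : c ∈ P := by
  have hquot : IsPGroup p (cz v ⧸ center (cz v)) := by
    intro x
    induction x using QuotientGroup.induction_on with
    | H k =>
      obtain ⟨a, b, hab, -, -, hcomm, ⟨i, hi⟩, hbp⟩ := exists_split k hp.out
      refine ⟨i, ?_⟩
      rw [← QuotientGroup.mk_pow, QuotientGroup.eq_one_iff, ← hab, hcomm.mul_pow,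
        orderOf_dvd_iff_pow_eq_one.mp hi, one_mul]
      refine pow_mem (mem_center_iff.mpr fun t => Subtype.ext ?_) _
      exact mem_cz.mp (hstr q v hq hv hvm b b.2 (by rwa [Subgroup.orderOf_coe]) t.2)
  have hnil : Group.IsNilpotent (cz v) := Group.of_quotient_center_nilpotent hquot.isNilpotent
  obtain ⟨T, hT⟩ := exists_sylow_mem (r := p) (x := (⟨c, hc⟩ : cz v)) (pEl_coe.mp hcp)
  have hPp : IsPGroup p ((P : Subgroup G).subgroupOf (cz v)) :=
    P.isPGroup'.comap_of_injective _ (cz v).subtype_injective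
  obtain ⟨S, hS⟩ := hPp.exists_le_sylow
  have hTn : (T : Subgroup (cz v)).Normal := inferInstance
  have := Sylow.unique_of_normal T hTn
  rw [Subsingleton.elim T S] at hT
  have hcard : Nat.card S ≤ Nat.card ((P : Subgroup G).subgroupOf (cz v)) := by
    rw [Nat.card_congr (subgroupOfEquivOfLe hP).toEquiv, P.card_eq_multiplicity, S.card_eq_multiplicity]
    exact Nat.pow_le_pow_right hp.out.pos
      ((Nat.factorization_le_iff_dvd Nat.card_pos.ne' Nat.card_pos.ne').mpr
        (card_subgroup_dvd_card _) p)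
  have hle : Nat.card (S : Subgroup (cz v)) ≤ Nat.card ((P : Subgroup G).subgroupOf (cz v)) := hcard
  have := eq_of_le_of_card_ge hS hle
  change (⟨c, hc⟩ : cz v) ∈ (S : Subgroup (cz v)) at hT
  rw [← this] at hT
  exact mem_subgroupOf.mp hT

omit [Finite G] in
/-- A normal subgroup of a nilpotent group outside `C` has an element outside `C` whose commutators
lie in `C`. -/
theorem exists_comm_mem {N : Type u} [Group N] [Group.IsNilpotent N] (X C : Subgroup N) [X.Normal]
    (h : ¬ X ≤ C) : ∃ u ∈ X, u ∉ C ∧ ∀ y : N, ⁅u, y⁆ ∈ C := by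
  classical
  have hex : ∃ k, ¬ X ⊓ Subgroup.upperCentralSeries N k ≤ C :=
    ⟨Group.nilpotencyClass N, by rwa [Subgroup.upperCentralSeries_nilpotencyClass, inf_top_eq]⟩
  have hk := Nat.find_spec hex
  obtain ⟨k, hk'⟩ := Nat.exists_eq_succ_of_ne_zero (n := Nat.find hex) fun e => by
    rw [e, Subgroup.upperCentralSeries_zero, inf_bot_eq] at hk
    exact hk bot_le
  rw [hk'] at hk
  obtain ⟨u, hu, huC⟩ := SetLike.not_le_iff_exists.mp hk
  refine ⟨u, hu.1, huC, fun y => ?_⟩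
  have hmin : X ⊓ Subgroup.upperCentralSeries N k ≤ C :=
    not_not.mp (Nat.find_min hex (hk' ▸ k.lt_succ_self))
  refine hmin ⟨?_, Subgroup.mem_upperCentralSeries_succ_iff.mp hu.2 y⟩
  rw [commutatorElement_def, mul_assoc, mul_assoc, ← mul_assoc y u⁻¹ y⁻¹]
  exact X.mul_mem hu.1 ((inferInstance : X.Normal).conj_mem _ (X.inv_mem hu.1) y)

namespace Hyp

variable (H : Hyp G n m) {p q : ℕ} [hp : Fact p.Prime] [hq : Fact q.Prime]
  (hn' : ∀ s : ℕ, s.Prime → s ∣ n → s = p) (hm' : ∀ s : ℕ, s.Prime → s ∣ m → s = q)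
  (hstrP : PStruct G m p) (hstrQ : PStruct G n q)

include H hp hq hn' hm' hstrP hstrQ

theorem primary_n {t : G} {r : ℕ} (hr : r.Prime) (ht : PEl r t) (htn : sz t = n) : PEl p t :=
  hn' r hr (H.prime_of_n hr ht htn) ▸ ht

theorem primary_m {t : G} {r : ℕ} (hr : r.Prime) (ht : PEl r t) (htm : sz t = m) : PEl q t :=
  hm' r hr (H.symm.prime_of_n hr ht htm) ▸ ht

theorem dvd_n : p ∣ n := by
  obtain ⟨s, hs, hsn⟩ := Nat.exists_prime_and_dvd (n := n) (by have := H.hn; omega)
  exact hn' s hs hsn ▸ hsn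

theorem dvd_m : q ∣ m := by
  obtain ⟨s, hs, hsm⟩ := Nat.exists_prime_and_dvd (n := m) (by have := H.hm; omega)
  exact hm' s hs hsm ▸ hsm

theorem p_ne_q : p ≠ q := fun h =>
  H.not_dvd_both hp.out (H.dvd_n hn' hm' hstrP hstrQ) (h ▸ H.dvd_m hn' hm' hstrP hstrQ)

theorem exists_cz_ge (P : Sylow p G) :
    ∃ v, PEl q v ∧ sz v = m ∧ (P : Subgroup G) ≤ cz v := by
  obtain ⟨w, hw⟩ := H.exm
  obtain ⟨r, v, hr, hv, -, hvm, -⟩ := H.symm.exists_primary hw
  have hnd : ¬ p ∣ sz v := by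
    rw [hvm]; exact H.dvd_n_not_m hp.out (H.dvd_n hn' hm' hstrP hstrQ)
  obtain ⟨S, hS⟩ := exists_sylow_le hnd
  obtain ⟨g, hg⟩ := MulAction.exists_smul_eq G S P
  refine ⟨g * v * g⁻¹, (H.primary_m hn' hm' hstrP hstrQ hr hv hvm).conj g, by rw [sz_conj, hvm], ?_⟩
  intro c hc
  have hsub : (P : Subgroup G) = (S : Subgroup G).map (MulAut.conj g).toMonoidHom := by rw [← hg]; rfl
  rw [hsub] at hc
  obtain ⟨d, hd, rfl⟩ := hc
  refine cz_conj.mpr ?_
  simpa [mul_assoc] using hS hd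

theorem mem_all_of_good {u : G} (hu : PEl p u) (hun : sz u = n) (P : Sylow p G) : u ∈ P := by
  obtain ⟨v, hv, hvm, hP⟩ := H.exists_cz_ge hn' hm' hstrP hstrQ P
  exact mem_sylow_of_struct hstrP hq.out hv hvm P hP
    (mem_cz.mpr (H.commute_n_m hp.out hu hun hvm).eq) hu

theorem sylow_eq_of_big {x : G} (hx : PEl p x) (hxs : sz x = n * m) (P P' : Sylow p G) (h : x ∈ P)
    (h' : x ∈ P') : P = P' := by
  obtain ⟨v, hv, hvm, hP⟩ := H.exists_cz_ge hn' hm' hstrP hstrQ P
  obtain ⟨v', hv', hvm', hP'⟩ := H.exists_cz_ge hn' hm' hstrP hstrQ P'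
  have hqp : ∀ {t : G}, PEl q t → (orderOf t).Coprime p := fun ht =>
    ht.coprime_prime hq.out hp.out (H.p_ne_q hn' hm' hstrP hstrQ).symm
  have h1 : v ∈ cz x := mem_cz.mpr (mem_cz.mp (hP h)).symm
  have h2 : v' ∈ cz x := mem_cz.mpr (mem_cz.mp (hP' h')).symm
  have h3 : v' ∈ cz v := H.comm_big hxs hx h1 (hqp hv) h2
  have heq : cz v = cz v' :=
    cz_eq_of_le (hstrP q v hq.out hv hvm v' h3 (hqp hv')) (hvm.trans hvm'.symm)
  refine Sylow.ext (le_antisymm (fun c hc => ?_) fun c hc => ?_)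
  · exact mem_sylow_of_struct hstrP hq.out hv' hvm' P' hP' (heq ▸ hP hc) (pEl_of_mem P.isPGroup' hc)
  · exact mem_sylow_of_struct hstrP hq.out hv hvm P hP (heq.symm ▸ hP' hc) (pEl_of_mem P'.isPGroup' hc)

theorem normal_or : (∃ P : Sylow p G, (P : Subgroup G).Normal) ∨
    ∃ Q : Sylow q G, (Q : Subgroup G).Normal := by
  obtain ⟨P⟩ := (inferInstance : Nonempty (Sylow p G))
  obtain ⟨w, hw⟩ := H.exn
  obtain ⟨r, u₀, hr, hu₀, -, hun₀, -⟩ := H.exists_primary hw
  have hu₀p := H.primary_n hn' hm' hstrP hstrQ hr hu₀ hun₀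
  set X := Cfsg.pCore p G with hX
  have hu₀X : u₀ ∈ X := by
    have hle : ∀ S : Sylow p G, normalClosure ({u₀} : Set G) ≤ S := fun S => by
      refine (closure_le _).mpr fun t ht => ?_
      obtain ⟨a', ha', hc⟩ := Group.mem_conjugatesOfSet_iff.mp ht
      rw [Set.mem_singleton_iff] at ha'
      rw [ha'] at hc
      obtain ⟨c, rfl⟩ := isConj_iff.mp hc
      exact H.mem_all_of_good hn' hm' hstrP hstrQ (hu₀p.conj c) (by rw [sz_conj, hun₀]) S
    exact Core.le_pCore (P.isPGroup'.to_le (hle P)) (subset_normalClosure (Set.mem_singleton u₀))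
  have hXP : X ≤ (P : Subgroup G) := Core.pCore_le_sylow P
  have : Group.IsNilpotent (P : Subgroup G) := P.isPGroup'.isNilpotent
  have hnle : ¬ X.subgroupOf P ≤ (center G).subgroupOf P := fun h =>
    H.nc_n hun₀ (mem_subgroupOf.mp (h (show (⟨u₀, hXP hu₀X⟩ : (P : Subgroup G)) ∈ X.subgroupOf P
      from hu₀X)))
  obtain ⟨u, huX, huc, hcomm⟩ := exists_comm_mem _ _ hnle
  have hup : PEl p (u : G) := pEl_of_mem P.isPGroup' u.2
  have huc' : (u : G) ∉ center G := huc
  rcases H.range (u : G) with e | e | e | e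
  · exact absurd (sz_eq_one_iff.mp e) huc'
  · right
    obtain ⟨a, hna⟩ := eq_prime_pow (by have := H.hn; omega) hn'
    have hcop : (P : Subgroup G).index.Coprime (cz (u : G)).index := by
      rw [show (cz (u : G)).index = n from e, hna]
      exact ((hp.out.coprime_iff_not_dvd.mpr P.not_dvd_index).pow_left a).symm
    have hconj : ∀ g : G, cz (g * (u : G) * g⁻¹) = cz (u : G) := by
      intro g
      obtain ⟨y, hy, c, hc, rfl⟩ := ClassGraph.exists_mul_of_coprime hcop g
      have hz : ((⁅u, (⟨y, hy⟩ : (P : Subgroup G))⁆ : (P : Subgroup G)) : G) ∈ center G :=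
        mem_subgroupOf.mp (hcomm ⟨y, hy⟩)
      have hz' : (u : G)⁻¹ * (y * (u : G) * y⁻¹) ∈ center G := by
        have : (u : G)⁻¹ * (y * (u : G) * y⁻¹) =
            (u : G)⁻¹ * ((u : G) * y * (u : G)⁻¹ * y⁻¹)⁻¹ * (u : G) := by group
        rw [this]
        have h1 : ((u : G) * y * (u : G)⁻¹ * y⁻¹) ∈ center G := hz
        simpa using (inferInstance : (center G).Normal).conj_mem _ (inv_mem h1) (u : G)⁻¹
      rw [show y * c * (u : G) * (y * c)⁻¹ = y * (c * (u : G) * c⁻¹) * y⁻¹ by group,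
        CoprimeClass.conj_eq_of_mem hc,
        show y * (u : G) * y⁻¹ = (u : G) * ((u : G)⁻¹ * (y * (u : G) * y⁻¹)) by group,
        cz_mul_center hz']
    have hn2 : ¬ q ∣ sz (u : G) := e.symm ▸ fun h =>
      H.not_dvd_both hq.out h (H.dvd_m hn' hm' hstrP hstrQ)
    obtain ⟨Q, hQ⟩ := exists_sylow_le hn2
    refine ⟨Q, ?_⟩
    have hall : ∀ Q' : Sylow q G, Q' = Q := fun Q' => by
      obtain ⟨g, hg⟩ := MulAction.exists_smul_eq G Q Q'
      have hQ' : (Q' : Subgroup G) ≤ cz (u : G) := by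
        intro c hc
        have hsub : (Q' : Subgroup G) = (Q : Subgroup G).map (MulAut.conj g).toMonoidHom := by
          rw [← hg]; rfl
        rw [hsub] at hc
        obtain ⟨d, hd, rfl⟩ := hc
        rw [← hconj g]
        refine cz_conj.mpr ?_
        simpa [mul_assoc] using hQ hd
      exact Sylow.ext (le_antisymm
        (fun c hc => mem_sylow_of_struct hstrQ hp.out hup e Q hQ (hQ' hc)
          (pEl_of_mem Q'.isPGroup' hc))
        fun c hc => mem_sylow_of_struct hstrQ hp.out hup e Q' hQ' (hQ hc) (pEl_of_mem Q.isPGroup' hc))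
    have : Subsingleton (Sylow q G) := ⟨fun A B => (hall A).trans (hall B).symm⟩
    exact Sylow.normal_of_subsingleton Q
  · exact absurd e (H.sz_ne_m hp.out (H.dvd_n hn' hm' hstrP hstrQ) hup)
  · left
    refine ⟨P, ?_⟩
    have hall : ∀ P' : Sylow p G, P' = P := fun P' =>
      H.sylow_eq_of_big hn' hm' hstrP hstrQ hup e P' P
        (Core.pCore_le_sylow P' (mem_subgroupOf.mp huX)) u.2
    have : Subsingleton (Sylow p G) := ⟨fun A B => (hall A).trans (hall B).symm⟩
    exact Sylow.normal_of_subsingleton P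

theorem false_of_normal (P : Sylow p G) (hPn : (P : Subgroup G).Normal) {b₀ : G} (hb₀ : PEl q b₀)
    (hb₀s : sz b₀ = n * m) : False := by
  obtain ⟨w, hw⟩ := H.exn
  obtain ⟨r, u, hr, hu, -, hun, -⟩ := H.exists_primary hw
  replace hu := H.primary_n hn' hm' hstrP hstrQ hr hu hun
  obtain ⟨a, hna⟩ := eq_prime_pow (by have := H.hn; omega) hn'
  have hpq := H.p_ne_q hn' hm' hstrP hstrQ
  have := Sylow.unique_of_normal P hPn
  have hmemP : ∀ {c : G}, PEl p c → c ∈ P := fun hc => by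
    obtain ⟨S, hS⟩ := exists_sylow_mem hc
    rwa [Subsingleton.elim P S]
  set P₀ := (P : Subgroup G) ⊓ cz u with hP₀
  have hP₀card : p ^ (Nat.card G).factorization p ∣ Nat.card P₀ * n := by
    obtain ⟨R⟩ := (inferInstance : Nonempty (Sylow p (cz u)))
    have hle : (R : Subgroup (cz u)).map (cz u).subtype ≤ P₀ := by
      rintro _ ⟨c, hc, rfl⟩
      exact ⟨hmemP (pEl_coe.mpr (pEl_of_mem R.isPGroup' hc)), c.2⟩
    have h1 := card_dvd_of_le hle
    rw [card_map_of_injective (cz u).subtype_injective, R.card_eq_multiplicity] at h1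
    refine dvd_trans ?_ (mul_dvd_mul_right h1 n)
    have h2 := congrArg (fun k => k.factorization p) (cz u).card_mul_index
    simp only [Nat.factorization_mul Nat.card_pos.ne' (sz_pos _).ne', Finsupp.add_apply] at h2
    change (Nat.card (cz u)).factorization p + (sz u).factorization p = _ at h2
    rw [hun, hna, hp.out.factorization_pow, Finsupp.single_eq_same] at h2
    rw [hna, ← pow_add, h2]
  -- elements of `cz u` of `p`-power order are central there
  have hcentral : ∀ c ∈ P₀, cz u ≤ cz c := fun c hc =>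
    hstrQ p u hp.out hu hun c hc.2 ((pEl_of_mem P.isPGroup' hc.1).coprime_prime hp.out hq.out hpq)
  have huP₀ : u ∈ P₀ := ⟨hmemP hu, mem_cz.mpr rfl⟩
  have hself : ∀ c ∈ P, (∀ d ∈ P₀, Commute c d) → c ∈ P₀ := fun c hc h =>
    ⟨hc, mem_cz.mpr (h u huP₀).eq⟩
  have hne : P₀ ≠ (P : Subgroup G) := fun h => by
    have hd : ¬ p ∣ sz u := fun hd => P.not_dvd_index (hd.trans (index_dvd_of_le (h ▸ inf_le_right)))
    rw [hun] at hd
    exact hd (H.dvd_n hn' hm' hstrP hstrQ)
  have : Group.IsNilpotent (P : Subgroup G) := P.isPGroup'.isNilpotent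
  have hlt : P₀.subgroupOf P < ⊤ := lt_top_iff_ne_top.mpr fun h => hne
    (le_antisymm inf_le_left (subgroupOf_eq_top.mp h))
  obtain ⟨g, hgN, hgP₀⟩ := SetLike.exists_of_lt (Group.normalizerCondition_of_isNilpotent _ hlt)
  rw [mem_subgroupOf] at hgP₀
  have hgnorm : ∀ c ∈ P₀, (g : G) * c * (g : G)⁻¹ ∈ P₀ := fun c hc =>
    mem_subgroupOf.mp ((Subgroup.mem_normalizer_iff.mp hgN ⟨c, hc.1⟩).mp hc)
  have hgnorm' : ∀ c ∈ P₀, (g : G)⁻¹ * c * (g : G) ∈ P₀ := fun c hc => by
    have hx : ((g : G)⁻¹ * c * (g : G)) ∈ P :=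
      mul_mem (mul_mem (inv_mem g.2) hc.1) g.2
    refine mem_subgroupOf.mp ((Subgroup.mem_normalizer_iff.mp hgN ⟨_, hx⟩).mpr ?_)
    rw [mem_subgroupOf]
    simpa [mul_assoc] using hc
  -- `g` commutes with the `q`-elements of `cz u`
  have hgcomm : ∀ b ∈ cz u, PEl q b → Commute b (g : G) := by
    intro b hb hbq
    set h := (g : G)⁻¹ * (b * (g : G) * b⁻¹) with hh
    have hfix : ∀ c ∈ P₀, b * c * b⁻¹ = c := fun c hc =>
      mul_inv_eq_iff_eq_mul.mpr (mem_cz.mp (hcentral c hc hb))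
    have hhP₀ : h ∈ P₀ := by
      refine hself h (mul_mem (inv_mem g.2) (hPn.conj_mem _ g.2 b)) fun d hd => ?_
      have e1 := hfix _ (hgnorm d hd)
      have e2 := hfix d hd
      have e3 : (b * (g : G) * b⁻¹) * d * (b * (g : G) * b⁻¹)⁻¹ = (g : G) * d * (g : G)⁻¹ := by
        calc (b * (g : G) * b⁻¹) * d * (b * (g : G) * b⁻¹)⁻¹
            = b * ((g : G) * (b⁻¹ * d * b) * (g : G)⁻¹) * b⁻¹ := by group
          _ = b * ((g : G) * d * (g : G)⁻¹) * b⁻¹ := by
              rw [show b⁻¹ * d * b = d by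
                calc b⁻¹ * d * b = b⁻¹ * (b * d * b⁻¹) * b := by rw [e2]
                  _ = d := by group]
          _ = _ := e1
      refine mul_inv_eq_iff_eq_mul.mp ?_
      calc h * d * h⁻¹ = (g : G)⁻¹ * ((b * (g : G) * b⁻¹) * d * (b * (g : G) * b⁻¹)⁻¹) * (g : G) := by
            rw [hh]; group
        _ = d := by rw [e3]; group
    have hbg : b * (g : G) * b⁻¹ = (g : G) * h := by rw [hh, mul_inv_cancel_left]
    have hit : ∀ k : ℕ, b ^ k * (g : G) * (b ^ k)⁻¹ = (g : G) * h ^ k := by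
      intro k
      induction k with
      | zero => simp
      | succ k ih =>
        calc b ^ (k + 1) * (g : G) * (b ^ (k + 1))⁻¹ = b * (b ^ k * (g : G) * (b ^ k)⁻¹) * b⁻¹ := by
              rw [pow_succ']; group
          _ = (b * (g : G) * b⁻¹) * (b * h ^ k * b⁻¹) := by rw [ih]; group
          _ = (g : G) * h ^ (k + 1) := by
              rw [hbg, ← conj_pow, hfix h hhP₀, mul_assoc, ← pow_succ']
    have h1 := hit (orderOf b)
    rw [pow_orderOf_eq_one, one_mul, inv_one, mul_one, left_eq_mul] at h1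
    have hh1 : h = 1 := (pEl_of_mem P.isPGroup' hhP₀.1).eq_one_of_coprime
      (Nat.Coprime.coprime_dvd_left (orderOf_dvd_of_pow_eq_one h1)
        (hbq.coprime_prime hq.out hp.out hpq.symm))
    rw [hh1, mul_one] at hbg
    exact mul_inv_eq_iff_eq_mul.mp hbg
  -- contradiction with the centralizer of `b₀`
  have hqn : ¬ q ∣ sz u := by
    rw [hun]; exact fun h => H.not_dvd_both hq.out h (H.dvd_m hn' hm' hstrP hstrQ)
  obtain ⟨Q, hQ⟩ := exists_sylow_le hqn
  obtain ⟨d, hd⟩ := exists_conj_mem hb₀ Q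
  have hbu : d * b₀ * d⁻¹ ∈ cz u := hQ hd
  set R := P₀ ⊔ zpowers (g : G) with hR
  have hRP : R ≤ (P : Subgroup G) := sup_le inf_le_left (zpowers_le.mpr g.2)
  have hRb : R ≤ cz (d * b₀ * d⁻¹) := sup_le
    (fun c hc => mem_cz.mpr (mem_cz.mp (hcentral c hc hbu)).symm)
    (zpowers_le.mpr (mem_cz.mpr (hgcomm _ hbu (hb₀.conj d)).symm.eq))
  have h1 := card_mul_dvd (P.isPGroup'.to_le hRP) hRb (k := a)
    (by rw [sz_conj, hb₀s, ← hna]; exact dvd_mul_right n m)
  rw [← hna] at h1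
  have h2 : Nat.card P₀ < Nat.card R := by
    refine lt_of_le_of_ne (card_le_of_le le_sup_left) fun e => hgP₀ ?_
    rw [eq_of_le_of_card_ge (le_sup_left (b := zpowers (g : G))) e.ge]
    exact (le_sup_right (a := P₀)) (mem_zpowers _)
  have h3 : Nat.card R * n ≤ Nat.card P₀ * n :=
    (Nat.le_of_dvd (pow_pos hp.out.pos _) h1).trans
      (Nat.le_of_dvd (Nat.mul_pos Nat.card_pos (by have := H.hn; omega)) hP₀card)
  exact absurd (Nat.le_of_mul_le_mul_right h3 (by have := H.hn; omega)) (not_le.mpr h2)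

omit hp hq hn' hm' hstrP hstrQ in
theorem no_big : ¬ HasBig G n m := by
  intro hbig
  obtain ⟨p, x, hp, hpn, hx, hxs⟩ := id hbig
  obtain ⟨q, y, hq, hqm, hy, hys⟩ := H.hasBig_symm hbig
  have := Fact.mk hp
  have := Fact.mk hq
  obtain ⟨hn', hstrP⟩ := H.big_struct hpn hx hxs
  obtain ⟨hm', hstrQ⟩ := H.symm.big_struct hqm hy hys
  rcases H.normal_or hn' hm' hstrP hstrQ with ⟨P, hP⟩ | ⟨Q, hQ⟩
  · exact H.false_of_normal hn' hm' hstrP hstrQ P hP hy (by rw [hys, mul_comm])
  · exact H.symm.false_of_normal hm' hn' hstrQ hstrP Q hQ hx (by rw [hxs, mul_comm])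

end Hyp

end Cfsg.Agent.ClassNM
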