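import Cfsg.Agent.ClassNM.BadEnd

/-!
Class sizes `1, n, m, n * m`: the centralizers of the elements of class size `m`.
-/

set_option autoImplicit false
set_option linter.unusedSectionVars false

namespace Cfsg.Agent.ClassNM

open Subgroup
open CoprimeClass (cz sz mem_cz center_le cz_le_of_mem_zpowers cz_mul)

universe u

variable {G : Type u} [Group G] [Finite G] {n m : ℕ}

omit [Finite G] in
theorem cz_subgroupOf {K : Subgroup G} (w : K) : cz w = (cz (w : G)).subgroupOf K := by
  ext c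
  rw [mem_subgroupOf, mem_cz, mem_cz, Subtype.ext_iff]; rfl

omit [Finite G] in
theorem pEl_coe {r : ℕ} {K : Subgroup G} {w : K} : PEl r (w : G) ↔ PEl r w := by
  unfold PEl; rw [Subgroup.orderOf_coe]

/-- A Sylow subgroup inside a subgroup of index prime to `s`, through a given element. -/
theorem exists_sylow_mem_le {s : ℕ} [Fact s.Prime] {H : Subgroup G} (h : ¬ s ∣ H.index) {x : G}
    (hxH : x ∈ H) (hx : PEl s x) : ∃ S : Sylow s G, x ∈ S ∧ (S : Subgroup G) ≤ H := by
  obtain ⟨R, hR⟩ := exists_sylow_mem (r := s) (x := (⟨x, hxH⟩ : H)) (pEl_coe.mp hx)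
  have hc : Nat.card ((R : Subgroup H).map H.subtype) = s ^ (Nat.card G).factorization s := by
    rw [card_map_of_injective H.subtype_injective, R.card_eq_multiplicity, ← H.card_mul_index,
      Nat.factorization_mul Nat.card_pos.ne' FiniteIndex.index_ne_zero, Finsupp.add_apply,
      Nat.factorization_eq_zero_of_not_dvd h, add_zero]
  exact ⟨Sylow.ofCard _ hc, ⟨_, hR, rfl⟩, map_subtype_le _⟩

omit [Finite G] in
theorem eq_prime_pow {p k : ℕ} (hk : k ≠ 0) (h : ∀ s : ℕ, s.Prime → s ∣ k → s = p) :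
    ∃ a, k = p ^ a :=
  ⟨_, Nat.eq_prime_pow_of_unique_prime_dvd hk fun {s} hs hd => h s hs hd⟩

namespace Hyp

variable (H : Hyp G n m)

include H

theorem sz_ne_m {p : ℕ} (hp : p.Prime) (hpn : p ∣ n) {y : G} (hy : PEl p y) : sz y ≠ m :=
  haveI := Fact.mk hp
  H.no_bad hpn hy

theorem prime_of_n {r : ℕ} (hr : r.Prime) {u : G} (hu : PEl r u) (hun : sz u = n) : r ∣ n :=
  (H.prime_dvd hr hu (H.nc_n hun)).resolve_right fun h => H.symm.sz_ne_m hr h hu hun

theorem commute_n_m {r : ℕ} (hr : r.Prime) {u v : G} (hu : PEl r u) (hun : sz u = n)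
    (hv : sz v = m) : Commute u v :=
  H.good_commute hr (H.dvd_n_not_m hr (H.prime_of_n hr hu hun)) hu hun hv

theorem exists_big_in {p : ℕ} [hp : Fact p.Prime] (hpn : p ∣ n) {x : G} (hx : PEl p x)
    (hxs : sz x = n * m) {v : G} (hv : sz v = m) :
    ∃ g : G, g * x * g⁻¹ ∈ cz v ∧ PEl p (g * x * g⁻¹) ∧ sz (g * x * g⁻¹) = n * m := by
  obtain ⟨g, hg⟩ := commute_conj_of_not_dvd hx
    (show ¬ p ∣ sz v by rw [hv]; exact H.dvd_n_not_m hp.out hpn)
  refine ⟨g⁻¹, cz_conj.mp ?_ |> fun h => by simpa using h, hx.conj _, by rw [sz_conj]; exact hxs⟩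
  exact mem_cz.mpr hg.eq

/-- In the centralizer of an element of class size `m` the elements of its prime are central. -/
theorem central_in_cz {p q : ℕ} [hp : Fact p.Prime] [hq : Fact q.Prime] (hpn : p ∣ n) {x : G}
    (hx : PEl p x) (hxs : sz x = n * m) {v : G} (hv : PEl q v) (hvm : sz v = m) (b : cz v)
    (hb : PEl q b) : b ∈ center (cz v) := by
  have hqm : q ∣ m := H.symm.prime_of_n hq.out hv hvm
  have hqn : ¬ q ∣ n := fun h => H.not_dvd_both hq.out h hqm
  have hpq : p ≠ q := fun h => hqn (h ▸ hpn)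
  obtain ⟨g, hxv, hxp, hxn⟩ := H.exists_big_in hpn hx hxs hvm
  set x' := g * x * g⁻¹ with hx'
  -- the Sylow subgroups of `cz v` are abelian
  have hvx : v ∈ cz x' := mem_cz.mpr (mem_cz.mp hxv).symm
  have hqc : ∀ c ∈ cz x', PEl q c → cz x' ≤ cz c := fun c hc hcp =>
    H.comm_big hxn hxp hc (hcp.coprime_prime hq.out hp.out hpq.symm)
  obtain ⟨R⟩ := (inferInstance : Nonempty (Sylow q (cz x')))
  have hRle : (R : Subgroup (cz x')).map (cz x').subtype ≤ cz v := by
    rintro _ ⟨c, hc, rfl⟩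
    exact mem_cz.mpr (mem_cz.mp (hqc c c.2 (pEl_coe.mpr (pEl_of_mem R.isPGroup' hc)) hvx)).symm
  set R' := ((R : Subgroup (cz x')).map (cz x').subtype).subgroupOf (cz v) with hR'
  have hcard : Nat.card R' = q ^ (Nat.card (cz v)).factorization q := by
    rw [hR', Nat.card_congr (subgroupOfEquivOfLe hRle).toEquiv,
      card_map_of_injective (cz x').subtype_injective, R.card_eq_multiplicity]
    congr 1
    have h1 := congrArg (fun k => k.factorization q) (cz x').card_mul_index
    have h2 := congrArg (fun k => k.factorization q) (cz v).card_mul_index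
    simp only [Nat.factorization_mul Nat.card_pos.ne' (sz_pos _).ne', Finsupp.add_apply] at h1 h2
    change (Nat.card (cz x')).factorization q + (sz x').factorization q = _ at h1
    change (Nat.card (cz v)).factorization q + (sz v).factorization q = _ at h2
    rw [hxn, Nat.factorization_mul (by have := H.hn; omega) (by have := H.hm; omega),
      Finsupp.add_apply, Nat.factorization_eq_zero_of_not_dvd hqn, zero_add] at h1
    rw [hvm] at h2
    omega
  have hab : ∀ (S : Sylow q (cz v)), ∀ a ∈ (S : Subgroup (cz v)), ∀ c ∈ (S : Subgroup (cz v)),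
      a * c = c * a := by
    intro S a ha c hc
    obtain ⟨d, hd⟩ := MulAction.exists_smul_eq (cz v) S (Sylow.ofCard R' hcard)
    have hmem : ∀ t ∈ (S : Subgroup (cz v)), d * t * d⁻¹ ∈ R' := fun t ht => by
      have : d * t * d⁻¹ ∈ ((d • S : Sylow q (cz v)) : Subgroup (cz v)) := ⟨t, ht, rfl⟩
      rw [hd] at this; exact this
    obtain ⟨a₁, ha₁, hae⟩ := hmem a ha
    obtain ⟨c₁, hc₁, hce⟩ := hmem c hc
    have h1 : (a₁ : G) * c₁ = c₁ * a₁ :=
      (mem_cz.mp (hqc a₁ a₁.2 (pEl_coe.mpr (pEl_of_mem R.isPGroup' ha₁)) c₁.2)).symm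
    have h2 : (d * a * d⁻¹) * (d * c * d⁻¹) = (d * c * d⁻¹) * (d * a * d⁻¹) := Subtype.ext (by
      change (a₁ : G) = ((d * a * d⁻¹ : cz v) : G) at hae
      change (c₁ : G) = ((d * c * d⁻¹ : cz v) : G) at hce
      show ((d * a * d⁻¹ : cz v) : G) * ((d * c * d⁻¹ : cz v) : G) =
        ((d * c * d⁻¹ : cz v) : G) * ((d * a * d⁻¹ : cz v) : G)
      rw [← hae, ← hce]
      exact h1)
    rw [conj_mul, conj_mul] at h2
    exact mul_left_cancel (mul_right_cancel h2)
  refine center_of_meet fun w => ?_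
  obtain ⟨a, c, hac, -, -, hacomm, hap, hcq⟩ := exists_split w hq.out
  have hcv : (c : G) ∈ cz v := c.2
  have hcop : (orderOf v).Coprime (orderOf (c : G)) :=
    coprime_of_pEl hv (by rwa [Subgroup.orderOf_coe])
  have e := cz_mul (mem_cz.mp hcv).symm hcop
  have hs : sz (v * c) = m ∨ sz (v * c) = m * n := H.symm.sz_of_n_dvd
    (hvm ▸ index_dvd_of_le (e ▸ inf_le_left))
  have hndx : ¬ q ∣ (cz c).index := by
    rw [cz_subgroupOf]
    have h1 := relIndex_mul_index (inf_le_left : cz v ⊓ cz (c : G) ≤ cz v)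
    rw [inf_relIndex_left, ← e, show (cz v).index = m from hvm] at h1
    change (cz (c : G)).relIndex (cz v) * m = sz (v * c) at h1
    show ¬ q ∣ (cz (c : G)).relIndex (cz v)
    intro hd
    rcases hs with f | f <;> rw [f] at h1
    · rw [Nat.mul_eq_right (by have := H.hm; omega)] at h1
      rw [h1] at hd; exact hq.out.not_dvd_one hd
    · rw [mul_comm m n] at h1
      rw [Nat.eq_of_mul_eq_mul_right (by have := H.hm; omega) h1] at hd
      exact hqn hd
  obtain ⟨S, haS, hSle⟩ := exists_sylow_mem_le hndx (mem_cz.mpr hacomm.eq) hap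
  obtain ⟨d, hd⟩ := exists_conj_mem hb S
  refine ⟨d, ?_⟩
  rw [← hac]
  exact Commute.mul_left (hab S a haS _ hd) (mem_cz.mp (hSle hd)).symm

end Hyp

end Cfsg.Agent.ClassNM
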