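import Cfsg.Agent.ClassNM.Final

/-!
Class sizes `1, n, m, n * m`: the group is nilpotent and `n`, `m` are prime powers.
-/

set_option autoImplicit false
set_option linter.unusedSectionVars false

namespace Cfsg.Agent.ClassNM

open Subgroup
open CoprimeClass (cz sz mem_cz center_le cz_le_of_mem_zpowers cz_mul)

universe u

variable {G : Type u} [Group G] [Finite G] {n m : ℕ}

/-- The subgroup generated by the prime power elements for the primes of `n`. -/
def primesPart (G : Type u) [Group G] (n : ℕ) : Subgroup G :=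
  closure {y : G | ∃ r : ℕ, r.Prime ∧ r ∣ n ∧ PEl r y}

omit [Finite G] in
theorem mem_primesPart {r : ℕ} (hr : r.Prime) (hrn : r ∣ n) {y : G} (hy : PEl r y) :
    y ∈ primesPart G n :=
  subset_closure ⟨r, hr, hrn, hy⟩

omit [Finite G] in
theorem primesPart_normal : (primesPart G n).Normal := by
  refine ⟨fun x hx g => ?_⟩
  have hle : primesPart G n ≤ (primesPart G n).comap (MulAut.conj g).toMonoidHom :=
    (closure_le _).mpr fun y ⟨r, hr, hrn, hy⟩ => mem_primesPart hr hrn (hy.conj g)
  exact hle hx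

namespace Hyp

variable (H : Hyp G n m)

include H

theorem sz_primary {r : ℕ} (hr : r.Prime) (hrn : r ∣ n) {y : G} (hy : PEl r y)
    (hnc : y ∉ center G) : sz y = n := by
  rcases H.range y with e | e | e | e
  · exact absurd (sz_eq_one_iff.mp e) hnc
  · exact e
  · exact absurd e (H.sz_ne_m hr hrn hy)
  · exact absurd ⟨r, y, hr, hrn, hy, e⟩ H.no_big

theorem commute_primary {r s : ℕ} (hr : r.Prime) (hs : s.Prime) (hrn : r ∣ n) (hsm : s ∣ m)
    {y z : G} (hy : PEl r y) (hz : PEl s z) : Commute y z := by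
  by_cases hyc : y ∈ center G
  · exact (mem_center_iff.mp hyc z).symm
  by_cases hzc : z ∈ center G
  · exact mem_center_iff.mp hzc y
  exact H.commute_n_m hr hy (H.sz_primary hr hrn hy hyc) (H.symm.sz_primary hs hsm hz hzc)

theorem mem_cz_part {w : G} (hw : w ∈ primesPart G n) {s : ℕ} (hs : s.Prime) (hsm : s ∣ m)
    {z : G} (hz : PEl s z) : z ∈ cz w := by
  have hle : primesPart G n ≤ cz z := (closure_le _).mpr fun y ⟨r, hr, hrn, hy⟩ =>
    mem_cz.mpr (H.commute_primary hr hs hrn hsm hy hz).eq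
  exact mem_cz.mpr (mem_cz.mp (hle hw)).symm

theorem sz_part {w : G} (hw : w ∈ primesPart G n) : sz w = 1 ∨ sz w = n := by
  obtain ⟨s, hs, hsm⟩ := Nat.exists_prime_and_dvd (n := m) (by have := H.hm; omega)
  have := Fact.mk hs
  obtain ⟨S⟩ := (inferInstance : Nonempty (Sylow s G))
  have hnd : ¬ s ∣ sz w := fun h => S.not_dvd_index (h.trans (index_dvd_of_le fun z hz =>
    H.mem_cz_part hw hs hsm (pEl_of_mem S.isPGroup' hz)))
  rcases H.range w with e | e | e | e
  · exact .inl e
  · exact .inr e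
  · exact absurd (e ▸ hsm) hnd
  · exact absurd (e ▸ dvd_mul_of_dvd_right hsm n) hnd

theorem part_sup {w : G} (hw : w ∈ primesPart G n) : primesPart G n ⊔ cz w = ⊤ := by
  refine eq_top_iff.mpr fun g _ => CoprimeClass.mem_of_parts _ g fun d _ r a hr ho => ?_
  have hd : PEl r d := ⟨a, ho.dvd⟩
  by_cases hrn : r ∣ n
  · exact mem_sup_left (mem_primesPart hr hrn hd)
  refine mem_sup_right ?_
  by_cases hdc : d ∈ center G
  · exact center_le w hdc
  exact H.mem_cz_part hw hr ((H.prime_dvd hr hd hdc).resolve_left hrn) hd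

theorem twoClassSizes : TwoClassSizes.Hyp (primesPart G n) n := by
  refine ⟨H.hn, fun w hw => ?_⟩
  have := primesPart_normal (G := G) (n := n)
  have hs : sz (w : G) = n := (H.sz_part w.2).resolve_left fun e => hw <|
    mem_center_iff.mpr fun t => Subtype.ext (mem_center_iff.mp (sz_eq_one_iff.mp e) t)
  have h1 : (cz (w : G)).relIndex (primesPart G n) * (primesPart G n).index =
      (cz (w : G)).index * (primesPart G n).index := by
    have e1 := relIndex_mul_index (inf_le_left : primesPart G n ⊓ cz (w : G) ≤ primesPart G n)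
    have e2 := relIndex_mul_index (inf_le_right : primesPart G n ⊓ cz (w : G) ≤ cz (w : G))
    rw [inf_relIndex_left] at e1
    rw [inf_relIndex_right, ← relIndex_sup_right (H := cz (w : G)) (K := primesPart G n), sup_comm,
      H.part_sup w.2, relIndex_top_right] at e2
    rw [e1, ← e2, mul_comm]
  have h2 := Nat.eq_of_mul_eq_mul_right (Nat.pos_of_ne_zero FiniteIndex.index_ne_zero) h1
  show (cz w).index = n
  rw [cz_subgroupOf]
  exact h2.trans hs

theorem exists_prime_n : ∃ p : ℕ, p.Prime ∧ ∀ s : ℕ, s.Prime → s ∣ n → s = p := by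
  obtain ⟨p, hp, hall⟩ := H.twoClassSizes.exists_prime
  refine ⟨p, hp, fun s hs hsn => by_contra fun hsp => ?_⟩
  have := Fact.mk hs
  obtain ⟨y, hy, hync⟩ := H.exists_nc (s := s) (dvd_mul_of_dvd_left hsn m)
  have hyP := mem_primesPart hs hsn hy
  refine hync (mem_center_iff.mpr fun g => ?_)
  have hcz : g ∈ cz y := CoprimeClass.mem_of_parts _ g fun d _ r a hr ho => by
    have hd : PEl r d := ⟨a, ho.dvd⟩
    by_cases hrn : r ∣ n
    · exact mem_cz.mpr (congrArg Subtype.val (mem_center_iff.mp
        (hall s hs hsp ⟨y, hyP⟩ (pEl_coe.mp hy)) ⟨d, mem_primesPart hr hrn hd⟩))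
    by_cases hdc : d ∈ center G
    · exact center_le y hdc
    exact H.mem_cz_part hyP hr ((H.prime_dvd hr hd hdc).resolve_left hrn) hd
  exact mem_cz.mp hcz

theorem isPrimePow_n : IsPrimePow n := by
  obtain ⟨p, hp, hall⟩ := H.exists_prime_n
  obtain ⟨a, rfl⟩ := eq_prime_pow (by have := H.hn; omega) hall
  refine hp.isPrimePow.pow fun e => ?_
  have := H.hn
  rw [e, pow_zero] at this
  omega

theorem commute_coprime {r s : ℕ} (hr : r.Prime) (hs : s.Prime) (hrs : r ≠ s) {y z : G}
    (hy : PEl r y) (hz : PEl s z) : Commute y z := by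
  by_cases hyc : y ∈ center G
  · exact (mem_center_iff.mp hyc z).symm
  by_cases hzc : z ∈ center G
  · exact mem_center_iff.mp hzc y
  obtain ⟨p, -, hp⟩ := H.exists_prime_n
  obtain ⟨q, -, hq⟩ := H.symm.exists_prime_n
  rcases H.prime_dvd hr hy hyc with h1 | h1 <;> rcases H.prime_dvd hs hz hzc with h2 | h2
  · exact absurd ((hp r hr h1).trans (hp s hs h2).symm) hrs
  · exact H.commute_primary hr hs h1 h2 hy hz
  · exact (H.commute_primary hs hr h2 h1 hz hy).symm
  · exact absurd ((hq r hr h1).trans (hq s hs h2).symm) hrs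

theorem sylow_normal {r : ℕ} [hr : Fact r.Prime] (S : Sylow r G) : (S : Subgroup G).Normal := by
  rw [← normalizer_eq_top_iff, ← index_eq_one]
  refine Nat.eq_one_iff_not_exists_prime_dvd.mpr fun s hs hd => ?_
  have := Fact.mk hs
  rcases eq_or_ne s r with rfl | hsr
  · exact S.not_dvd_index (hd.trans (index_dvd_of_le le_normalizer))
  obtain ⟨T⟩ := (inferInstance : Nonempty (Sylow s G))
  refine T.not_dvd_index (hd.trans (index_dvd_of_le fun z hz => centralizer_le_normalizer _ ?_))
  exact mem_centralizer_iff.mpr fun y hy => (H.commute_coprime hr.out hs (Ne.symm hsr)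
    (pEl_of_mem S.isPGroup' hy) (pEl_of_mem T.isPGroup' hz)).eq

theorem isNilpotent : Group.IsNilpotent G :=
  ((Group.isNilpotent_of_finite_tfae (G := G)).out 0 3 rfl rfl).mpr
    fun _ hp S => haveI := hp; H.sylow_normal S

end Hyp

end Cfsg.Agent.ClassNM
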