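import Cfsg.Agent.ClassNM.Good
import Cfsg.Agent.S4035

/-!
Class sizes `1, n, m, n * m`: a prime-power element of the largest class forces strong structure.
-/

set_option autoImplicit false
set_option linter.unusedSectionVars false

namespace Cfsg.Agent.ClassNM

open Subgroup
open CoprimeClass (cz sz mem_cz center_le cz_le_of_mem_zpowers cz_mul)

universe u

variable {G : Type u} [Group G] [Finite G] {n m : ℕ}

/-- The centralizer of an element of class size `m` is a `p`-group times a central subgroup. -/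
def PStruct (G : Type u) [Group G] (m p : ℕ) : Prop :=
  ∀ (q : ℕ) (v : G), q.Prime → PEl q v → sz v = m →
    ∀ c ∈ cz v, (orderOf c).Coprime p → cz v ≤ cz c

/-- A prime power element with the largest class for a prime of `n`. -/
def HasBig (G : Type u) [Group G] (n m : ℕ) : Prop :=
  ∃ (p : ℕ) (x : G), p.Prime ∧ p ∣ n ∧ PEl p x ∧ sz x = n * m

namespace Hyp

variable (H : Hyp G n m)

include H

theorem relIndex_cases {q : ℕ} {v c : G} (hv : PEl q v) (hvm : sz v = m) (hc : c ∈ cz v)
    (hcq : (orderOf c).Coprime q) :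
    ((cz c).relIndex (cz v) = 1 ∨ (cz c).relIndex (cz v) = n) ∧
      (sz c = n * m → (cz c).relIndex (cz v) = n) := by
  have e := cz_mul (mem_cz.mp hc).symm (coprime_of_pEl hv hcq)
  have h1 := relIndex_mul_index (inf_le_left : cz v ⊓ cz c ≤ cz v)
  rw [inf_relIndex_left, ← e, show (cz v).index = m from hvm] at h1
  change (cz c).relIndex (cz v) * m = sz (v * c) at h1
  have hm0 : 0 < m := by have := H.hm; omega
  have hs : sz (v * c) = m ∨ sz (v * c) = m * n :=
    H.symm.sz_of_n_dvd (hvm ▸ index_dvd_of_le (e ▸ inf_le_left))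
  refine ⟨?_, fun hcs => ?_⟩
  · rcases hs with f | f <;> rw [f] at h1
    · exact .inl (Nat.eq_of_mul_eq_mul_right hm0 (h1.trans (one_mul m).symm))
    · exact .inr (Nat.eq_of_mul_eq_mul_right hm0 (h1.trans (mul_comm m n)))
  · have hd : n * m ∣ sz (v * c) := hcs ▸ index_dvd_of_le (e ▸ inf_le_right)
    rw [H.sz_of_nm_dvd hd] at h1
    exact Nat.eq_of_mul_eq_mul_right hm0 h1

theorem big_struct {p : ℕ} [hp : Fact p.Prime] (hpn : p ∣ n) {x : G} (hx : PEl p x)
    (hxs : sz x = n * m) :
    (∀ s : ℕ, s.Prime → s ∣ n → s = p) ∧ PStruct G m p := by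
  have key : ∀ (q : ℕ) (v : G), q.Prime → PEl q v → sz v = m →
      (∀ s : ℕ, s.Prime → s ∣ n → s = p) ∧
        ∀ c ∈ cz v, (orderOf c).Coprime p → cz v ≤ cz c := by
    intro q v hq hv hvm
    have := Fact.mk hq
    have hqm := H.symm.prime_of_n hq hv hvm
    have hpq : p ≠ q := fun h => H.not_dvd_both hp.out hpn (h ▸ hqm)
    obtain ⟨g, hxv, hxp, hxn⟩ := H.exists_big_in hpn hx hxs hvm
    have hK : TwoClassSizes.Hyp (cz v) n := by
      refine ⟨H.hn, fun w hw => ?_⟩
      obtain ⟨a, c, hac, -, -, hcomm, hap, hcq⟩ := exists_split w hq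
      have ha := H.central_in_cz hpn hx hxs hv hvm a hap
      have hcz : cz w = cz c := by rw [← hac, hcomm.eq, cz_mul_center ha]
      show (cz w).index = n
      rw [hcz, cz_subgroupOf]
      rcases (H.relIndex_cases hv hvm c.2 (by rwa [Subgroup.orderOf_coe])).1 with f | f
      · refine absurd ?_ hw
        rw [← sz_eq_one_iff]
        show (cz w).index = 1
        rw [hcz, cz_subgroupOf]; exact f
      · exact f
    obtain ⟨p₀, -, hall⟩ := hK.exists_prime
    have hprimes : ∀ s : ℕ, s.Prime → s ∣ n → s = p₀ := by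
      intro s hs hsn
      by_contra hne
      have := Fact.mk hs
      obtain ⟨R, hR⟩ := exists_sylow_le (s := s)
        (show ¬ s ∣ sz v by rw [hvm]; exact H.dvd_n_not_m hs hsn)
      refine R.not_dvd_index ((hsn.trans (hxn ▸ dvd_mul_right n m : n ∣ sz (g * x * g⁻¹))).trans
        (index_dvd_of_le fun c hc => ?_))
      have hcc := hall s hs hne ⟨c, hR hc⟩ (pEl_coe.mp (pEl_of_mem R.isPGroup' hc))
      refine mem_cz.mpr ?_
      exact congrArg Subtype.val ((mem_center_iff.mp hcc) ⟨g * x * g⁻¹, hxv⟩).symm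
    obtain rfl := hprimes p hp.out hpn
    refine ⟨hprimes, fun c hc hcp => ?_⟩
    have hcen : (⟨c, hc⟩ : cz v) ∈ center (cz v) := CoprimeClass.mem_of_parts _ _
      fun d hd r a hr ho => by
        by_cases h : r = p
        · subst h
          have hd1 : PEl r d := ⟨a, ho.dvd⟩
          rw [hd1.eq_one_of_coprime (Nat.Coprime.coprime_dvd_left
            ((orderOf_dvd_of_mem_zpowers hd).trans (dvd_of_eq (Subgroup.orderOf_mk c hc))) hcp)]
          exact one_mem _
        · exact hall r hr h d ⟨a, ho.dvd⟩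
    intro t ht
    exact mem_cz.mpr (congrArg Subtype.val ((mem_center_iff.mp hcen) ⟨t, ht⟩))
  obtain ⟨w, hw⟩ := H.exm
  obtain ⟨q, v, hq, hv, -, hvm, -⟩ := H.symm.exists_primary hw
  exact ⟨(key q v hq hv hvm).1, fun q' v' hq' hv' hvm' => (key q' v' hq' hv' hvm').2⟩

/-- If only the primes of `n` have prime power elements with the largest class, there are none. -/
theorem hasBig_symm (hbig : HasBig G n m) : HasBig G m n := by
  by_contra hnb
  obtain ⟨p, x, hp, hpn, hx, hxs⟩ := hbig
  have := Fact.mk hp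
  obtain ⟨hprimes, hstr⟩ := H.big_struct hpn hx hxs
  have hpm : ¬ p ∣ m := H.dvd_n_not_m hp hpn
  have hreg : ∀ w : G, (orderOf w).Coprime p → ¬ p ∣ sz w := by
    intro w hw
    by_cases hwc : w ∈ center G
    · rw [sz_eq_one_iff.mpr hwc]; exact hp.not_dvd_one
    obtain ⟨r, t, hr, ht, hnc, hmem⟩ := exists_nc_part hwc
    have hrp : r ≠ p := fun h => by
      subst h
      exact hnc (ht.eq_one_of_coprime (Nat.Coprime.coprime_dvd_left
        (orderOf_dvd_of_mem_zpowers hmem) hw) ▸ one_mem _)
    have hrm : r ∣ m := (H.prime_dvd hr ht hnc).resolve_left fun h => hrp (hprimes r hr h)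
    have htm : sz t = m := by
      rcases H.range t with e | e | e | e
      · exact absurd (sz_eq_one_iff.mp e) hnc
      · exact (H.not_dvd_both hr (H.prime_of_n hr ht e) hrm).elim
      · exact e
      · exact absurd ⟨r, t, hr, hrm, ht, e.trans (mul_comm n m)⟩ hnb
    have hle := hstr r t hr ht htm w (cz_le_of_mem_zpowers hmem (mem_cz.mpr rfl)) hw
    exact fun h => hpm (h.trans (htm ▸ index_dvd_of_le hle))
  obtain ⟨P, hxP⟩ := exists_sylow_mem hx
  obtain ⟨hPn, N, hNn, hNp, hinf, hsup⟩ := S4035.result (G := G) (p := p) (fun w hw => by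
    have : (ConjClasses.mk w).carrier = conjugatesOf w := by
      ext; rw [ConjClasses.mem_carrier_iff_mk_eq]; exact ConjClasses.mk_eq_mk_iff_isConj.trans ⟨IsConj.symm, IsConj.symm⟩
    rw [this, ClassGraph.card_conjugatesOf]
    exact hreg w hw) P
  have hdisj : Disjoint (P : Subgroup G) N := disjoint_iff.mpr hinf
  have hle : N ≤ cz x := fun c hc => mem_cz.mpr
    (commute_of_normal_of_disjoint (P : Subgroup G) N hPn hNn hdisj x c hxP hc).symm.eq
  have hidx : sz x ∣ Nat.card (P : Subgroup G) := by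
    refine (index_dvd_of_le hle).trans (dvd_of_eq ?_)
    exact (isComplement'_of_disjoint_and_mul_eq_univ hdisj (by
      rw [← mul_normal (H := (P : Subgroup G)) (N := N), hsup]; rfl)).index_eq_card.symm.symm
  rw [hxs, P.card_eq_multiplicity] at hidx
  exact absurd (Nat.eq_one_of_dvd_coprimes (((hp.coprime_iff_not_dvd.mpr hpm).pow_left _).symm)
    dvd_rfl (dvd_trans (dvd_mul_left m n) hidx)) (by have := H.hm; omega)

end Hyp

end Cfsg.Agent.ClassNM
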